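import Cfsg.Agent.H885.BS.OrthA
import Cfsg.Agent.ClassicalGeometry.OrthAut1
import Cfsg.Agent.H367.Rg.Gluck

/-!
# S5717: long root groups of the orthogonal groups

helper885. `π : E Q →* T` surjective with central kernel, `dim V ≥ 7`, `F` finite: the groups
`XX π u v = {π (sx u (t v)) | t}` of the totally singular lines are long root groups: `lrg : LRG (XX π u v) 4`,
`card_XX`.
-/

set_option autoImplicit false

namespace Cfsg.Agent.H885.BS.Orth

open QuadraticMap Module Cfsg.Agent.LieClassical.OrthCore Cfsg.Agent.LieClassical.OrthTrans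
  Cfsg.Agent.LieClassical.OrthFinite Cfsg.Agent.H141.Rg Cfsg.Agent.H367.Rg.Gluck

variable {F V : Type*} [Field F] [AddCommGroup V] [Module F V] {Q : QuadraticForm F V}
variable {T : Type*} [Group T] (π : ↥(E Q) →* T)

/-- the group of the line `⟨u, v⟩` -/
def XX (u v : V) : Subgroup T := Subgroup.closure {z | ∃ t : F, z = π (sx Q u (t • v))}

variable {π}

theorem mem_XX {u v : V} (h : TS Q u v) {z : T} : z ∈ XX π u v ↔ ∃ t : F, z = π (sx Q u (t • v)) := by
  constructor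
  · intro hz
    unfold XX at hz
    induction hz using Subgroup.closure_induction with
    | mem x hx => exact hx
    | one => exact ⟨0, by rw [zero_smul, sx_zero h.l, map_one]⟩
    | mul x y _ _ hx hy =>
      obtain ⟨s, rfl⟩ := hx
      obtain ⟨t, rfl⟩ := hy
      refine ⟨s + t, ?_⟩
      rw [← map_mul, sx_add (h.smul_right s) (h.smul_right t) ((TS.self h.r).smul s t), add_smul]
    | inv x _ hx =>
      obtain ⟨s, rfl⟩ := hx
      exact ⟨-s, by rw [← map_inv, sx_inv (h.smul_right s), neg_smul]⟩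
  · rintro ⟨t, rfl⟩
    exact Subgroup.subset_closure ⟨t, rfl⟩

theorem mem_XX_self {u v : V} (h : TS Q u v) : π (sx Q u v) ∈ XX π u v :=
  (mem_XX h).2 ⟨1, by rw [one_smul]⟩

theorem cj_XX {u v : V} (h : TS Q u v) (g : ↥(E Q)) :
    cj (XX π u v) (π g) = XX π ((g : V ≃ₗ[F] V) u) ((g : V ≃ₗ[F] V) v) := by
  have hg : (g : V ≃ₗ[F] V) ∈ O Q := E_le_O g.2
  ext z
  rw [mem_cj, mem_XX h, mem_XX (h.map hg)]
  constructor
  · rintro ⟨t, ht⟩
    refine ⟨t, ?_⟩
    have h1 : z = π g * π (sx Q u (t • v)) * (π g)⁻¹ := by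
      rw [← ht]
      group
    rw [h1, ← map_inv, ← map_mul, ← map_mul, sx_conj g (h.smul_right t), map_smul]
  · rintro ⟨t, ht⟩
    refine ⟨t, ?_⟩
    rw [ht, ← map_smul, ← sx_conj g (h.smul_right t), map_mul, map_mul, map_inv]
    group

theorem XX_comb {u v : V} (h : TS Q u v) {a b c d : F} (hd : a * d - b * c ≠ 0) :
    XX π (a • u + b • v) (c • u + d • v) = XX π u v := by
  ext z
  rw [mem_XX (h.comb a b c d), mem_XX h]
  have key : ∀ t : F, sx Q (a • u + b • v) (t • (c • u + d • v)) = sx Q u (((a * d - b * c) * t) • v) := by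
    intro t
    rw [smul_add, smul_smul, smul_smul, sx_comb h]
    congr 2
    ring
  constructor
  · rintro ⟨t, rfl⟩
    exact ⟨_, by rw [key]⟩
  · rintro ⟨t, rfl⟩
    refine ⟨(a * d - b * c)⁻¹ * t, ?_⟩
    rw [key, ← mul_assoc, mul_inv_cancel₀ hd, one_mul]

theorem XX_symm {u v : V} (h : TS Q u v) : XX π v u = XX π u v := by
  have := XX_comb (π := π) h (a := 0) (b := 1) (c := 1) (d := 0) (by simp)
  simpa using this

theorem XX_smul {u v : V} (h : TS Q u v) {d : F} (hd : d ≠ 0) : XX π u (d • v) = XX π u v := by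
  have := XX_comb (π := π) h (a := 1) (b := 0) (c := 0) (d := d) (by simpa using hd)
  simpa using this

theorem LI.det {u v : V} {a b c d : F} (h : LI F (a • u + b • v) (c • u + d • v)) :
    a * d - b * c ≠ 0 := by
  intro hd
  have h1 : d • (a • u + b • v) + (-b) • (c • u + d • v) = (a * d - b * c) • u := by module
  have h2 : (-c) • (a • u + b • v) + a • (c • u + d • v) = (a * d - b * c) • v := by module
  rw [hd, zero_smul] at h1 h2
  obtain ⟨-, h3⟩ := h _ _ h1
  obtain ⟨-, h4⟩ := h _ _ h2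
  rw [neg_eq_zero] at h3
  apply h.left_ne
  rw [h3, h4, zero_smul, zero_smul, add_zero]

theorem XX_eq_of_mem {u v u' v' : V} (h : TS Q u v) (hl' : LI F u' v') (h1 : ∃ a b : F, u' = a • u + b • v)
    (h2 : ∃ c d : F, v' = c • u + d • v) : XX π u' v' = XX π u v := by
  obtain ⟨a, b, rfl⟩ := h1
  obtain ⟨c, d, rfl⟩ := h2
  exact XX_comb h hl'.det

section Cen

variable [Finite F] (hQ : Nondeg Q) (h7 : 7 ≤ finrank F V) (hk : π.ker ≤ Subgroup.center ↥(E Q))

include hQ h7 hk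

theorem pi_inj {u v u' v' : V} (h : TS Q u v) (h' : TS Q u' v') (he : π (sx Q u v) = π (sx Q u' v')) :
    sx Q u v = sx Q u' v' := by
  have hG : Good Q := good_of_finite hQ (by omega)
  set z : ↥(E Q) := (sx Q u' v')⁻¹ * sx Q u v with hz
  have h1 : z ∈ Subgroup.center ↥(E Q) := by
    apply hk
    rw [MonoidHom.mem_ker, hz, map_mul, map_inv, he, inv_mul_cancel]
  obtain ⟨c, hc⟩ := ClassicalGeometry.OrthAut1.center_scalar hG h1
  obtain ⟨y, hy0, hy⟩ := exists_perp_ne (Q := Q) ![u, v, u', v'] (by omega)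
  have e1 : polar Q u y = 0 := hy 0
  have e2 : polar Q v y = 0 := hy 1
  have e3 : polar Q u' y = 0 := hy 2
  have e4 : polar Q v' y = 0 := hy 3
  have h2 : sx Q u v = sx Q u' v' * z := by rw [hz]; group
  have h3 : (sx Q u v : V ≃ₗ[F] V) y = y := by
    rw [sx_apply h, e1, e2]
    simp
  have h4 : (sx Q u v : V ≃ₗ[F] V) y = c • y := by
    rw [h2]
    show (sx Q u' v' : V ≃ₗ[F] V) ((z : V ≃ₗ[F] V) y) = _
    rw [hc, map_smul, sx_apply h', e3, e4]
    simp
  have h5 : c = 1 := by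
    have h6 : (c - 1) • y = 0 := by
      rw [sub_smul, one_smul, ← h4, h3, sub_self]
    rcases smul_eq_zero.1 h6 with h6 | h6
    · exact sub_eq_zero.1 h6
    · exact absurd h6 hy0
  have h6 : z = 1 := E_ext fun y => by
    rw [hc, h5, one_smul]
    rfl
  rw [h2, h6, mul_one]

theorem pi_ne_one {u v : V} (h : TS Q u v) (hl : LI F u v) : π (sx Q u v) ≠ 1 := by
  intro he
  have hz : TS Q u 0 := ⟨h.l, QuadraticMap.map_zero Q, polar_zero_right _ _⟩
  have h1 := pi_inj hQ h7 hk h hz (by rw [he, sx_zero h.l, map_one])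
  obtain ⟨c, hc⟩ := sx_inj hQ h hz hl.left_ne h1
  have h2 := (hl (-c) 1 (by rw [sub_zero] at hc; rw [hc]; module)).2
  exact one_ne_zero h2

theorem sub_smul_mem {u v w : V} (h : TS Q u v) (h' : TS Q u w) (hu : u ≠ 0) (he : π (sx Q u v) = π (sx Q u w)) :
    ∃ c : F, v - w = c • u := sx_inj hQ h h' hu (pi_inj hQ h7 hk h h' he)

theorem param_inj {u v : V} (h : TS Q u v) (hl : LI F u v) {s t : F} (he : π (sx Q u (s • v)) = π (sx Q u (t • v))) :
    s = t := by
  obtain ⟨c, hc⟩ := sub_smul_mem hQ h7 hk (h.smul_right s) (h.smul_right t) hl.left_ne he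
  have h2 := (hl (-c) (s - t) (by rw [sub_smul, hc]; module)).2
  exact sub_eq_zero.1 h2

theorem card_XX {u v : V} (h : TS Q u v) (hl : LI F u v) : Nat.card (XX π u v) = Nat.card F := by
  symm
  refine Nat.card_congr (Equiv.ofBijective (fun t : F => (⟨π (sx Q u (t • v)), (mem_XX h).2 ⟨t, rfl⟩⟩ : XX π u v)) ⟨?_, ?_⟩)
  · intro s t hst
    exact param_inj hQ h7 hk h hl (congrArg Subtype.val hst)
  · rintro ⟨z, hz⟩
    obtain ⟨t, rfl⟩ := (mem_XX h).1 hz
    exact ⟨t, rfl⟩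

theorem XX_ti {u v u' v' : V} (h : TS Q u v) (h' : TS Q u' v') (hl' : LI F u' v')
    (hne : XX π u v ≠ XX π u' v') : XX π u v ⊓ XX π u' v' = ⊥ := by
  rw [eq_bot_iff]
  rintro z ⟨hz, hz'⟩
  rw [Subgroup.mem_bot]
  by_contra hz1
  apply hne
  obtain ⟨t, ht⟩ := (mem_XX h).1 hz
  obtain ⟨t', ht'⟩ := (mem_XX h').1 hz'
  have h0' : t' ≠ 0 := by
    rintro rfl
    apply hz1
    rw [ht', zero_smul, sx_zero h'.l, map_one]
  have hl2 : LI F u' (t' • v') := by
    have := hl'.comb (a := 1) (b := 0) (c := 0) (d := t') (by simpa using h0')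
    simpa using this
  have he := pi_inj hQ h7 hk (h.smul_right t) (h'.smul_right t') (by rw [← ht, ← ht'])
  obtain ⟨⟨a, b, h1⟩, ⟨c, d, h2⟩⟩ := sub_of_sx_eq hQ (h.smul_right t) (h'.smul_right t') hl2 he
  rw [smul_smul] at h1 h2
  rw [← XX_smul h' h0']
  exact (XX_eq_of_mem h hl2 ⟨_, _, h1⟩ ⟨_, _, h2⟩).symm

/-- equal lines with a common point -/
theorem mem_of_XX_eq {u v w : V} (h : TS Q u v) (h' : TS Q u w) (hu : u ≠ 0) (he : XX π u v = XX π u w) :
    ∃ c t : F, w = c • u + t • v := by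
  have h1 : π (sx Q u w) ∈ XX π u v := by
    rw [he]
    exact mem_XX_self h'
  obtain ⟨t, ht⟩ := (mem_XX h).1 h1
  obtain ⟨c, hc⟩ := sub_smul_mem hQ h7 hk h' (h.smul_right t) hu ht
  exact ⟨c, t, by rw [← hc]; abel⟩

end Cen

/-! ### steps -/

variable (π) in
/-- two lines in a totally singular plane -/
def R (A B : Subgroup T) : Prop :=
  ∃ u v w : V, LI3 F u v w ∧ TS Q u v ∧ TS Q u w ∧ TS Q v w ∧ A = XX π u v ∧ B = XX π u w

theorem exists_step (hQ : Nondeg Q) {u v w : V} (h3 : LI3 F u v w) (huv : TS Q u v) (huw : TS Q u w) (hvw : TS Q v w) :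
    ∃ g : ↥(E Q), (g : V ≃ₗ[F] V) u = u ∧ (g : V ≃ₗ[F] V) v = w := by
  obtain ⟨f, f0, f1, f2, f3⟩ := exists_dual3 hQ h3.swap huv hvw.symm
  obtain ⟨k, k0, k1, k2, k3⟩ := exists_dual3 hQ h3 huw hvw
  have f1' : polar Q f u = 0 := by rw [polar_comm]; exact f1
  have f2' : polar Q f w = 0 := by rw [polar_comm]; exact f2
  have f3' : polar Q f v = 1 := by rw [polar_comm]; exact f3
  have k1' : polar Q k u = 0 := by rw [polar_comm]; exact k1
  have k2' : polar Q k v = 0 := by rw [polar_comm]; exact k2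
  have k3' : polar Q k w = 1 := by rw [polar_comm]; exact k3
  have hfw : TS Q f w := ⟨f0, huw.r, f2'⟩
  have hkv : TS Q k (-v) := by
    have := (⟨k0, huv.r, k2'⟩ : TS Q k v).smul_right (-1)
    rwa [neg_one_smul] at this
  refine ⟨sx Q k (-v) * sx Q f w, ?_, ?_⟩
  · show (sx Q k (-v) : V ≃ₗ[F] V) ((sx Q f w : V ≃ₗ[F] V) u) = u
    rw [sx_apply hfw, f1', huw.o', zero_smul, zero_smul, add_zero, sub_zero, sx_apply hkv, k1', polar_neg_left, huv.o']
    simp
  · show (sx Q k (-v) : V ≃ₗ[F] V) ((sx Q f w : V ≃ₗ[F] V) v) = w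
    rw [sx_apply hfw, f3', hvw.o', zero_smul, one_smul, sub_zero, sx_apply hkv, polar_add_right, k2', k3',
      polar_neg_left, polar_add_right, huv.rr, hvw.o]
    simp

theorem R.conj (hQ : Nondeg Q) {A B : Subgroup T} (h : R π A B) : ∃ g : T, B = cj A g := by
  obtain ⟨u, v, w, h3, huv, huw, hvw, rfl, rfl⟩ := h
  obtain ⟨g, hu, hv⟩ := exists_step hQ h3 huv huw hvw
  exact ⟨π g, by rw [cj_XX huv, hu, hv]⟩

variable (π) in
/-- chains -/
def Ch : ℕ → Subgroup T → Subgroup T → Prop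
  | 0, A, B => A = B
  | n + 1, A, B => ∃ C, R π A C ∧ Ch n C B

theorem Ch.trans : ∀ {n m : ℕ} {A B C : Subgroup T}, Ch π n A B → Ch π m B C → Ch π (n + m) A C
  | 0, m, A, B, C, h, h' => by
    have h0 : A = B := h
    rw [zero_add, h0]
    exact h'
  | n + 1, m, A, B, C, h, h' => by
    obtain ⟨D, h1, h2⟩ := h
    rw [show n + 1 + m = (n + m) + 1 by omega]
    exact ⟨D, h1, h2.trans h'⟩

theorem Ch.conj (hQ : Nondeg Q) : ∀ {n : ℕ} {A B : Subgroup T}, Ch π n A B → ∃ g : T, B = cj A g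
  | 0, A, B, h => ⟨1, by rw [cj_one]; exact h.symm⟩
  | n + 1, A, B, h => by
    obtain ⟨C, h1, h2⟩ := h
    obtain ⟨g, rfl⟩ := h1.conj hQ
    obtain ⟨k, rfl⟩ := h2.conj hQ
    exact ⟨k * g, by rw [cj_cj]⟩

theorem Ch.path : ∀ {n : ℕ} {A B : Subgroup T}, Ch π n A B →
    ∃ p : ℕ → Subgroup T, p 0 = A ∧ p n = B ∧ ∀ i < n, R π (p i) (p (i + 1))
  | 0, A, B, h => ⟨fun _ => A, rfl, h, fun i hi => absurd hi (Nat.not_lt_zero i)⟩
  | n + 1, A, B, h => by
    obtain ⟨C, h1, h2⟩ := h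
    obtain ⟨p, p0, pn, hp⟩ := h2.path
    refine ⟨fun i => Nat.casesOn i A p, rfl, pn, ?_⟩
    intro i hi
    cases i with
    | zero =>
      show R π A (p 0)
      rw [p0]
      exact h1
    | succ i => exact hp i (by omega)

section Conn

variable [Finite F] (hQ : Nondeg Q) (h7 : 7 ≤ finrank F V)

include h7 in
theorem com_pt {u v v' : V} (h : TS Q u v) (hl : LI F u v) (h' : TS Q u v') (hl' : LI F u v') :
    ∃ l ≤ 2, Ch π l (XX π u v) (XX π u v') := by
  by_cases hm : ∃ a b : F, v' = a • u + b • v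
  · refine ⟨0, by norm_num, ?_⟩
    exact (XX_eq_of_mem h hl' ⟨1, 0, by simp⟩ hm).symm
  push Not at hm
  by_cases ho : polar Q v v' = 0
  · refine ⟨1, by norm_num, _, ⟨u, v, v', LI3.of hl hm, h, h', ⟨h.r, h'.r, ho⟩, rfl, rfl⟩, rfl⟩
  · obtain ⟨w, hw0, hw, hwp, hwu⟩ := exists_sing_perp_ne (Q := Q) ![u, v, v'] u (by omega)
    have e1 : polar Q u w = 0 := hwp 0
    have e2 : polar Q v w = 0 := hwp 1
    have e3 : polar Q v' w = 0 := hwp 2
    have huw : TS Q u w := ⟨h.l, hw, e1⟩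
    have n1 : LI3 F u v w := by
      refine LI3.of hl fun a b hab => hwu a ?_
      have hb : b = 0 := by
        rw [hab, polar_add_right, polar_smul_right, polar_smul_right, h'.o', polar_comm Q v' v, smul_zero, zero_add] at e3
        exact (mul_eq_zero.1 e3).resolve_right ho
      rw [hab, hb, zero_smul, add_zero]
    have n2 : LI3 F u v' w := by
      refine LI3.of hl' fun a b hab => hwu a ?_
      have hb : b = 0 := by
        rw [hab, polar_add_right, polar_smul_right, polar_smul_right, h.o', smul_zero, zero_add] at e2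
        exact (mul_eq_zero.1 e2).resolve_right ho
      rw [hab, hb, zero_smul, add_zero]
    refine ⟨2, le_refl 2, _, ⟨u, v, w, n1, h, huw, ⟨h.r, hw, e2⟩, rfl, rfl⟩, _,
      ⟨u, w, v', n2.swap, huw, h', ⟨hw, h'.r, by rw [polar_comm]; exact e3⟩, rfl, rfl⟩, rfl⟩

include h7 in
theorem conn {u v u' v' : V} (h : TS Q u v) (hl : LI F u v) (h' : TS Q u' v') (hl' : LI F u' v') :
    ∃ l ≤ 4, Ch π l (XX π u v) (XX π u' v') := by
  -- a basis `x`, `y` of the second line with `x` orthogonal to `u`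
  obtain ⟨x, y, hxy, hlxy, hX, hux⟩ : ∃ x y : V, TS Q x y ∧ LI F x y ∧ XX π x y = XX π u' v' ∧ polar Q u x = 0 := by
    by_cases h0 : polar Q u u' = 0
    · exact ⟨u', v', h', hl', rfl, h0⟩
    · have hd : polar Q u v' * 0 - (-polar Q u u') * 1 ≠ 0 := by simpa using h0
      refine ⟨_, _, h'.comb (polar Q u v') (-polar Q u u') 1 0, hl'.comb hd, XX_comb h' hd, ?_⟩
      rw [polar_add_right, polar_smul_right, polar_smul_right, smul_eq_mul, smul_eq_mul]
      ring
  rw [← hX]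
  by_cases hm : ∃ c : F, x = c • u
  · obtain ⟨c, rfl⟩ := hm
    have hc : c ≠ 0 := by
      rintro rfl
      exact hlxy.left_ne (zero_smul _ _)
    have hy : TS Q u y := by
      have := hxy.smul c⁻¹ 1
      rwa [smul_smul, inv_mul_cancel₀ hc, one_smul, one_smul] at this
    have hly : LI F u y := by
      have := hlxy.comb (a := c⁻¹) (b := 0) (c := 0) (d := 1) (by simpa using inv_ne_zero hc)
      simpa [smul_smul, inv_mul_cancel₀ hc] using this
    have h1 : XX π (c • u) y = XX π u y := by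
      have := XX_comb (π := π) hy (a := c) (b := 0) (c := 0) (d := 1) (by simpa using hc)
      simpa using this
    rw [h1]
    obtain ⟨l, h2, h3⟩ := com_pt (π := π) h7 h hl hy hly
    exact ⟨l, by omega, h3⟩
  · push Not at hm
    have hux' : TS Q u x := ⟨h.l, hxy.l, hux⟩
    have hlux : LI F u x := LI.of_not_mem hl.left_ne hm
    obtain ⟨l, h2, h3⟩ := com_pt (π := π) h7 h hl hux' hlux
    obtain ⟨l', h4, h5⟩ := com_pt (π := π) h7 hux'.symm hlux.symm hxy hlxy
    rw [XX_symm hux'] at h5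
    exact ⟨l + l', by omega, h3.trans h5⟩

include hQ h7 in
theorem exists_conj {u v u' v' : V} (h : TS Q u v) (hl : LI F u v) (h' : TS Q u' v') (hl' : LI F u' v') :
    ∃ g : T, XX π u' v' = cj (XX π u v) g := by
  obtain ⟨l, -, h1⟩ := conn (π := π) h7 h hl h' hl'
  exact h1.conj hQ

end Conn

end Cfsg.Agent.H885.BS.Orth
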