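import Cfsg.Agent.H917.FP.Basic

/-!
# S5717: fixed point ratios of central extensions

helper885. `fpr_quot` : `M` finite and perfect, `π : M →* T` surjective with central kernel; a bound for the fixed point
ratios of `π x` on all `T`-sets without global fixed points is a bound for `x` on all `M`-sets without global fixed points.
-/

set_option autoImplicit false

namespace Cfsg.Agent.H885.BS

open MulAction Cfsg.Agent.H917.FP
open scoped commutatorElement

/-- pairs `(g, ω)` with `x g ω = g ω` -/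
theorem card_fix_mul {M Ω : Type} [Group M] [Finite M] [Finite Ω] [MulAction M Ω] (x : M) :
    Nat.card {ω : Ω // ∀ a ∈ ({x} : Set M), a • ω = ω} * Nat.card M =
      Nat.card (Σ ω : Ω, {g : M // g⁻¹ * x * g ∈ stabilizer M ω}) := by
  have e1 : Nat.card (Σ ω : Ω, {g : M // g⁻¹ * x * g ∈ stabilizer M ω}) =
      Nat.card {p : Ω × M // x • p.2 • p.1 = p.2 • p.1} := by
    refine Nat.card_congr ⟨fun q => ⟨(q.1, q.2.1), ?_⟩, fun p => ⟨p.1.1, ⟨p.1.2, ?_⟩⟩, fun _ => rfl, fun _ => rfl⟩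
    · have h := mem_stabilizer_iff.1 q.2.2
      rwa [mul_smul, mul_smul, inv_smul_eq_iff] at h
    · rw [mem_stabilizer_iff, mul_smul, mul_smul, inv_smul_eq_iff]
      exact p.2
  rw [e1, ← Nat.card_prod]
  refine Nat.card_congr ⟨fun p => ⟨(p.2⁻¹ • p.1.1, p.2), ?_⟩, fun q => (⟨q.1.2 • q.1.1, ?_⟩, q.1.2), ?_, ?_⟩
  · show x • p.2 • p.2⁻¹ • p.1.1 = p.2 • p.2⁻¹ • p.1.1
    rw [smul_inv_smul]
    exact p.1.2 x rfl
  · rintro _ rfl
    exact q.2
  · rintro ⟨⟨ω, h⟩, g⟩
    simp
  · rintro ⟨⟨ω, g⟩, h⟩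
    simp

/-- the number of `t` with `t⁻¹ y t ∈ K` -/
theorem card_conj_le {T : Type} [Group T] [Finite T] {y : T} {δ : ℝ} {K : Subgroup T} (hK : K ≠ ⊤)
    (h : ∀ (Ω : Type) [Finite Ω] [MulAction T Ω], (∀ ω : Ω, ∃ g : T, g • ω ≠ ω) → fpr Ω {y} ≤ δ) :
    (Nat.card {t : T // t⁻¹ * y * t ∈ K} : ℝ) ≤ δ * Nat.card T := by
  have h1 : Nat.card {t : T // t⁻¹ * y * t ∈ K} =
      Nat.card K * Nat.card {ω : T ⧸ K // ∀ a ∈ ({y} : Set T), a • ω = ω} := by
    rw [← Nat.card_prod]
    let S : Set (T ⧸ K) := {ω | ∀ a ∈ ({y} : Set T), a • ω = ω}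
    have e := QuotientGroup.preimageMkEquivSubgroupProdSet K S
    refine (Nat.card_congr (Equiv.subtypeEquivRight fun t => ?_)).trans (Nat.card_congr e)
    show t⁻¹ * y * t ∈ K ↔ ∀ a ∈ ({y} : Set T), a • ((t : T) : T ⧸ K) = t
    constructor
    · rintro ht _ rfl
      rw [MulAction.Quotient.smul_coe, eq_comm, QuotientGroup.eq, smul_eq_mul, ← mul_assoc]
      exact ht
    · intro ht
      have h2 := ht y rfl
      rw [MulAction.Quotient.smul_coe, eq_comm, QuotientGroup.eq, smul_eq_mul, ← mul_assoc] at h2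
      exact h2
  have h2 := h (T ⧸ K) (by
    intro ω
    by_contra hcon
    push Not at hcon
    apply hK
    rw [eq_top_iff]
    intro g _
    obtain ⟨t, rfl⟩ := QuotientGroup.mk_surjective ω
    have h3 := hcon (t * g * t⁻¹)
    rw [MulAction.Quotient.smul_coe, eq_comm, QuotientGroup.eq, smul_eq_mul] at h3
    have h4 : t⁻¹ * (t * g * t⁻¹ * t) = g := by group
    rwa [h4] at h3)
  unfold fpr at h2
  rw [div_le_iff₀ (by exact_mod_cast Nat.card_pos)] at h2
  rw [h1, Subgroup.card_eq_card_quotient_mul_card_subgroup K]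
  push_cast
  nlinarith [mul_le_mul_of_nonneg_left h2 (Nat.cast_nonneg (α := ℝ) (Nat.card K))]

/-- preimages under a surjective homomorphism -/
theorem card_preimage {M T : Type} [Group M] [Finite M] [Group T] (π : M →* T)
    (hπ : Function.Surjective π) (P : T → Prop) :
    Nat.card {g : M // P (π g)} = Nat.card π.ker * Nat.card {t : T // P t} := by
  let S : Set (M ⧸ π.ker) := {q | P (QuotientGroup.quotientKerEquivOfSurjective π hπ q)}
  have e := QuotientGroup.preimageMkEquivSubgroupProdSet π.ker S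
  have e2 : S ≃ {t : T // P t} :=
    (QuotientGroup.quotientKerEquivOfSurjective π hπ).toEquiv.subtypeEquiv fun q => Iff.rfl
  rw [← Nat.card_prod]
  exact Nat.card_congr (e.trans (Equiv.prodCongr (Equiv.refl _) e2))

/-- a proper subgroup of a perfect group has a proper image modulo a central subgroup -/
theorem map_ne_top {M T : Type} [Group M] (hM : commutator M = ⊤) [Group T] (π : M →* T)
    (hk : π.ker ≤ Subgroup.center M) {H : Subgroup M} (hH : H ≠ ⊤) : H.map π ≠ ⊤ := by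
  intro htop
  have h1 : ∀ g : M, ∃ h ∈ H, ∃ z ∈ Subgroup.center M, g = h * z := by
    intro g
    obtain ⟨h, hh, he⟩ : π g ∈ H.map π := by rw [htop]; trivial
    refine ⟨h, hh, h⁻¹ * g, hk ?_, by group⟩
    rw [MonoidHom.mem_ker, map_mul, map_inv, he, inv_mul_cancel]
  apply hH
  rw [eq_top_iff, ← hM, commutator_def, Subgroup.commutator_le]
  intro a _ b _
  obtain ⟨x, hx, z, hz, rfl⟩ := h1 a
  obtain ⟨y, hy, w, hw, rfl⟩ := h1 b
  have hz' := Subgroup.mem_center_iff.1 hz
  have hw' := Subgroup.mem_center_iff.1 hw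
  have h2 : ⁅x * z, y * w⁆ = ⁅x, y⁆ := by
    have e1 : x * z * (y * w) = x * y * (z * w) := by
      rw [mul_assoc x z, ← mul_assoc z y w, ← hz' y]
      group
    have e2 : y * w * (x * z) = y * x * (z * w) := by
      rw [mul_assoc y w, ← mul_assoc w x z, ← hw' x, mul_assoc x w z, ← hz' w]
      group
    have e3 : ∀ a b : M, ⁅a, b⁆ = (a * b) * (b * a)⁻¹ := by
      intro a b
      rw [commutatorElement_def]
      group
    rw [e3, e3, e1, e2]
    group
  rw [h2, commutatorElement_def]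
  exact H.mul_mem (H.mul_mem (H.mul_mem hx hy) (H.inv_mem hx)) (H.inv_mem hy)

/-- **Central extensions.** -/
theorem fpr_quot {M : Type} [Group M] [Finite M] (hM : commutator M = ⊤) {T : Type} [Group T] (π : M →* T)
    (hπ : Function.Surjective π) (hk : π.ker ≤ Subgroup.center M) {x : M} {δ : ℝ}
    (h : ∀ (Ω : Type) [Finite Ω] [MulAction T Ω], (∀ ω : Ω, ∃ g : T, g • ω ≠ ω) → fpr Ω {π x} ≤ δ)
    (hδ : 0 ≤ δ) (Ω : Type) [Finite Ω] [MulAction M Ω] (hΩ : ∀ ω : Ω, ∃ g : M, g • ω ≠ ω) : fpr Ω {x} ≤ δ := by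
  have : Finite T := Finite.of_surjective π hπ
  have : Fintype Ω := Fintype.ofFinite Ω
  rcases Nat.eq_zero_or_pos (Nat.card Ω) with h0 | h0
  · unfold fpr
    rw [h0, Nat.cast_zero, div_zero]
    exact hδ
  have key : ∀ ω : Ω, (Nat.card {g : M // g⁻¹ * x * g ∈ stabilizer M ω} : ℝ) ≤ δ * Nat.card M := by
    intro ω
    have h1 : stabilizer M ω ≠ ⊤ := by
      intro ht
      obtain ⟨g, hg⟩ := hΩ ω
      apply hg
      have : g ∈ stabilizer M ω := by rw [ht]; trivial
      exact this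
    have h2 := card_conj_le (map_ne_top hM π hk h1) h
    have h3 : Nat.card {g : M // g⁻¹ * x * g ∈ stabilizer M ω} ≤
        Nat.card {g : M // (π g)⁻¹ * π x * π g ∈ (stabilizer M ω).map π} := by
      refine Nat.card_le_card_of_injective (fun g => ⟨g.1, ?_⟩) fun a b hab => Subtype.ext (congrArg (fun z => z.1) hab)
      exact ⟨_, g.2, by rw [map_mul, map_mul, map_inv]⟩
    rw [card_preimage π hπ (fun t => t⁻¹ * π x * t ∈ (stabilizer M ω).map π)] at h3
    have h4 : Nat.card M = Nat.card π.ker * Nat.card T := by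
      have := card_preimage π hπ (fun _ => True)
      simpa using this
    rw [h4]
    have h5 : (Nat.card {g : M // g⁻¹ * x * g ∈ stabilizer M ω} : ℝ) ≤
        Nat.card π.ker * Nat.card {t : T // t⁻¹ * π x * t ∈ (stabilizer M ω).map π} := by exact_mod_cast h3
    push_cast
    nlinarith [mul_le_mul_of_nonneg_left h2 (Nat.cast_nonneg (α := ℝ) (Nat.card π.ker))]
  have h1 := card_fix_mul (Ω := Ω) x
  rw [Nat.card_sigma] at h1
  have h2 : (Nat.card {ω : Ω // ∀ a ∈ ({x} : Set M), a • ω = ω} : ℝ) * Nat.card M ≤ (δ * Nat.card Ω) * Nat.card M := by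
    have h3 : (Nat.card {ω : Ω // ∀ a ∈ ({x} : Set M), a • ω = ω} : ℝ) * Nat.card M =
        ∑ ω : Ω, (Nat.card {g : M // g⁻¹ * x * g ∈ stabilizer M ω} : ℝ) := by exact_mod_cast h1
    rw [h3]
    refine (Finset.sum_le_sum fun ω _ => key ω).trans (le_of_eq ?_)
    rw [Finset.sum_const, Finset.card_univ, nsmul_eq_mul, ← Nat.card_eq_fintype_card]
    ring
  unfold fpr
  rw [div_le_iff₀ (by exact_mod_cast h0)]
  exact le_of_mul_le_mul_right h2 (by exact_mod_cast Nat.card_pos)

end Cfsg.Agent.H885.BS
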