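import Cfsg.Agent.H885.BS.Rat
import Cfsg.Agent.H917.FP.Basic
import Cfsg.Agent.H367.Rg.Gluck

/-!
# S5717: the weak form from character ratios

helper885. `weak_of_rat` : ratios at most `D / q ^ (1/8)`, `q ≤ |T|` ⟹ `fpr ^ C * q ≤ C`;
`lrg_bound` : the bound of `rat_of_lrg` (TEAM S5714) is of this form; `weak_of_lrg` : the conclusion for simple groups with
long root groups of order `q`.
-/

set_option autoImplicit false
set_option linter.unusedSectionVars false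

namespace Cfsg.Agent.H885.BS

open Cfsg Cfsg.Agent.Characters Cfsg.Agent.Characters.Core Cfsg.Agent.H686.CharKit MulAction
open Cfsg.Agent.H141.Rg Cfsg.Agent.H254.BS Cfsg.Agent.H917.FP

section Num

/-- `q ^ (1/8)` -/
noncomputable def r8 (q : ℕ) : ℝ := (q : ℝ) ^ (1 / 8 : ℝ)

theorem r8_pow (q : ℕ) : r8 q ^ 8 = q := by
  unfold r8
  rw [← Real.rpow_natCast, ← Real.rpow_mul (Nat.cast_nonneg q)]
  norm_num

theorem r8_pos {q : ℕ} (hq : 0 < q) : 0 < r8 q := Real.rpow_pos_of_pos (by exact_mod_cast hq) _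

theorem one_le_r8 {q : ℕ} (hq : 1 ≤ q) : 1 ≤ r8 q := Real.one_le_rpow (by exact_mod_cast hq) (by norm_num)

end Num

section Weak

theorem Rat_mono {T : Type} [Group T] {ρ ρ' : ℝ} (h : ρ ≤ ρ') {z : T} (hz : Rat ρ z) : Rat ρ' z := by
  intro χ hχ h1
  obtain ⟨n, hn, hn1⟩ := isIrr_apply_one hχ
  refine (hz χ hχ h1).trans (mul_le_mul_of_nonneg_right h ?_)
  rw [hn1, Complex.natCast_re]
  exact Nat.cast_nonneg _

/-- the fixed point ratio from `fixNum_le` -/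
theorem fpr_le_of_rat {T : Type} [Group T] [Finite T] {ρ : ℝ} (hρ0 : 0 ≤ ρ) (hρ : ∀ z : T, z ≠ 1 → Rat ρ z) {x : T}
    (hx : x ≠ 1) (Ω : Type) [Finite Ω] [MulAction T Ω] (hΩ : ∀ ω : Ω, ∃ g : T, g • ω ≠ ω) :
    fpr Ω {x} ≤ ρ + √(1 / Nat.card T + ρ ^ 2) := by
  have h := fixNum_le hρ0 hρ hΩ hx
  have h0 : (0 : ℝ) ≤ ρ + √(1 / Nat.card T + ρ ^ 2) := by positivity
  rcases Nat.eq_zero_or_pos (Nat.card Ω) with h1 | h1
  · unfold fpr
    rw [h1, Nat.cast_zero, div_zero]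
    exact h0
  · unfold fpr
    rw [div_le_iff₀ (by exact_mod_cast h1)]
    exact h

theorem weak_of_rat (D : ℝ) : ∃ C : ℕ, 0 < C ∧ ∀ (T : Type) [Group T] [Finite T] (q : ℕ), 1 ≤ q → q ≤ Nat.card T →
    (∀ z : T, z ≠ 1 → Rat (D / r8 q) z) → ∀ x : T, x ≠ 1 → ∀ (Ω : Type) [Finite Ω] [MulAction T Ω],
    (∀ ω : Ω, ∃ g : T, g • ω ≠ ω) → fpr Ω {x} ^ C * (q : ℝ) ≤ C := by
  set D' : ℝ := max D 0 with hD'
  have hD0 : 0 ≤ D' := le_max_right _ _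
  refine ⟨max 8 ⌈(2 * D' + 1) ^ 8⌉₊, lt_max_of_lt_left (by norm_num), ?_⟩
  intro T _ _ q hq hqT hρ x hx Ω _ _ hΩ
  have hr : 0 < r8 q := r8_pos hq
  have hr1 : 1 ≤ r8 q := one_le_r8 hq
  have hρ0 : 0 ≤ D' / r8 q := by positivity
  have h1 := fpr_le_of_rat hρ0 (fun z hz => Rat_mono (div_le_div_of_nonneg_right (le_max_left _ _) hr.le) (hρ z hz)) hx Ω hΩ
  have hqR : (0 : ℝ) < q := by exact_mod_cast hq
  have h2 : 1 / (Nat.card T : ℝ) ≤ 1 / r8 q ^ 2 := by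
    refine one_div_le_one_div_of_le (by positivity) ?_
    calc r8 q ^ 2 ≤ r8 q ^ 8 := pow_le_pow_right₀ hr1 (by norm_num)
      _ = q := r8_pow q
      _ ≤ Nat.card T := by exact_mod_cast hqT
  have h3 : √(1 / (Nat.card T : ℝ) + (D' / r8 q) ^ 2) ≤ (1 + D') / r8 q := by
    rw [show (1 + D') / r8 q = √(((1 + D') / r8 q) ^ 2) from (Real.sqrt_sq (by positivity)).symm]
    refine Real.sqrt_le_sqrt ?_
    rw [div_pow, div_pow]
    refine (add_le_add_left h2 _).trans ?_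
    rw [← add_div]
    refine div_le_div_of_nonneg_right ?_ (by positivity)
    nlinarith
  have h4 : fpr Ω {x} ≤ (2 * D' + 1) / r8 q := by
    refine h1.trans ((add_le_add_right h3 _).trans (le_of_eq ?_))
    rw [← add_div]
    congr 1
    ring
  have h5 : fpr Ω {x} ^ (max 8 ⌈(2 * D' + 1) ^ 8⌉₊) ≤ fpr Ω {x} ^ 8 :=
    pow_le_pow_of_le_one (fpr_nonneg _ _) (fpr_le_one _ _) (le_max_left _ _)
  have h6 : fpr Ω {x} ^ 8 * (q : ℝ) ≤ (2 * D' + 1) ^ 8 := by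
    calc fpr Ω {x} ^ 8 * (q : ℝ) ≤ ((2 * D' + 1) / r8 q) ^ 8 * q :=
          mul_le_mul_of_nonneg_right (pow_le_pow_left₀ (fpr_nonneg _ _) h4 _) hqR.le
      _ = (2 * D' + 1) ^ 8 := by
          rw [div_pow, r8_pow]
          field_simp
  calc fpr Ω {x} ^ (max 8 ⌈(2 * D' + 1) ^ 8⌉₊) * (q : ℝ) ≤ fpr Ω {x} ^ 8 * q :=
        mul_le_mul_of_nonneg_right h5 hqR.le
    _ ≤ (2 * D' + 1) ^ 8 := h6
    _ ≤ (⌈(2 * D' + 1) ^ 8⌉₊ : ℝ) := Nat.le_ceil _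
    _ ≤ _ := by exact_mod_cast le_max_right _ _

/-- `log₂ q ≤ 4 q ^ (1/4)` and the bound of `rat_of_lrg` -/
theorem lrg_bound (c C₀ : ℕ) : ∃ D : ℝ, ∀ (n q : ℕ), 2 ≤ q → n ≤ q ^ C₀ → 1 ≤ n →
    Real.sqrt (1 / (q : ℝ) + Real.sqrt (c * Real.logb 2 n / (q : ℝ))) ≤ D / r8 q := by
  refine ⟨√(1 + √(c * (C₀ * 4))), fun n q hq hn hn1 => ?_⟩
  have hq0 : 0 < q := by omega
  have hr : 0 < r8 q := r8_pos hq0
  have hr1 : 1 ≤ r8 q := one_le_r8 (by omega)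
  have hq0R : (0 : ℝ) < q := by exact_mod_cast hq0
  have h1 : Real.logb 2 n ≤ C₀ * (4 * r8 q ^ 2) := by
    have h2 : Real.logb 2 n ≤ Real.logb 2 ((q : ℝ) ^ C₀) := by
      refine Real.logb_le_logb_of_le (by norm_num) (by exact_mod_cast hn1) ?_
      exact_mod_cast hn
    rw [Real.logb_pow] at h2
    refine h2.trans (mul_le_mul_of_nonneg_left ?_ (Nat.cast_nonneg _))
    rw [← r8_pow q]
    have h3 : (r8 q) ^ 8 = (r8 q ^ 2) ^ 4 := by ring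
    rw [h3, Real.logb_pow]
    have h4 : Real.logb 2 (r8 q ^ 2) ≤ r8 q ^ 2 := by
      have hx : (1 : ℝ) ≤ r8 q ^ 2 := one_le_pow₀ hr1
      rw [Real.logb_le_iff_le_rpow (by norm_num) (by positivity)]
      -- `x ≤ 2 ^ x`
      have h5 : r8 q ^ 2 ≤ (⌊r8 q ^ 2⌋₊ : ℝ) + 1 := (Nat.lt_floor_add_one _).le
      have h6 : ((⌊r8 q ^ 2⌋₊ : ℝ) + 1) ≤ 2 ^ (⌊r8 q ^ 2⌋₊) := by
        have := Nat.lt_two_pow_self (n := ⌊r8 q ^ 2⌋₊)
        exact_mod_cast this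
      refine h5.trans (h6.trans ?_)
      rw [← Real.rpow_natCast]
      exact Real.rpow_le_rpow_of_exponent_le (by norm_num) (Nat.floor_le (by positivity))
    have h7 : ((4 : ℕ) : ℝ) = 4 := by norm_num
    rw [h7]
    exact mul_le_mul_of_nonneg_left h4 (by norm_num)
  have h8 : (c : ℝ) * Real.logb 2 n / q ≤ (c * (C₀ * 4)) / r8 q ^ 4 := by
    rw [div_le_div_iff₀ hq0R (by positivity)]
    have h9 : (q : ℝ) = r8 q ^ 2 * r8 q ^ 6 := by rw [← r8_pow q]; ring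
    have h10 : (c : ℝ) * Real.logb 2 n * r8 q ^ 4 ≤ c * (C₀ * (4 * r8 q ^ 2)) * r8 q ^ 4 := by
      gcongr
    refine h10.trans ?_
    rw [h9]
    have h11 : r8 q ^ 4 ≤ r8 q ^ 6 := pow_le_pow_right₀ hr1 (by norm_num)
    calc (c : ℝ) * (C₀ * (4 * r8 q ^ 2)) * r8 q ^ 4 = (c * (C₀ * 4) * r8 q ^ 2) * r8 q ^ 4 := by ring
      _ ≤ (c * (C₀ * 4) * r8 q ^ 2) * r8 q ^ 6 := by gcongr
      _ = c * (C₀ * 4) * (r8 q ^ 2 * r8 q ^ 6) := by ring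
  have h9 : Real.sqrt (c * Real.logb 2 n / (q : ℝ)) ≤ √(c * (C₀ * 4)) / r8 q ^ 2 := by
    refine (Real.sqrt_le_sqrt h8).trans (le_of_eq ?_)
    have h10 : r8 q ^ 4 = (r8 q ^ 2) ^ 2 := by ring
    rw [Real.sqrt_div (by positivity), h10, Real.sqrt_sq (by positivity)]
  have h10 : 1 / (q : ℝ) ≤ 1 / r8 q ^ 2 := by
    refine one_div_le_one_div_of_le (by positivity) ?_
    rw [← r8_pow q]
    exact pow_le_pow_right₀ hr1 (by norm_num)
  have h11 : 1 / (q : ℝ) + Real.sqrt (c * Real.logb 2 n / (q : ℝ)) ≤ (1 + √(c * (C₀ * 4))) / r8 q ^ 2 := by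
    rw [add_div]
    exact add_le_add h10 h9
  refine (Real.sqrt_le_sqrt h11).trans (le_of_eq ?_)
  rw [Real.sqrt_div (by positivity), Real.sqrt_sq hr.le]


/-- **Long root groups of order `q` give the weak form.** -/
theorem weak_of_lrg (c C₀ : ℕ) : ∃ C : ℕ, 0 < C ∧ ∀ (T : Type) [Group T] [Finite T] [IsSimpleGroup T] (q : ℕ), 2 ≤ q →
    Nat.card T ≤ q ^ C₀ → (∃ a b : T, a * b ≠ b * a) → ∀ X : Subgroup T, X ≠ ⊤ → Nat.card X = q → LRG X c →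
    ∀ x : T, x ≠ 1 → ∀ (Ω : Type) [Finite Ω] [MulAction T Ω], (∀ ω : Ω, ∃ g : T, g • ω ≠ ω) →
      fpr Ω {x} ^ C * (q : ℝ) ≤ C := by
  obtain ⟨D, hD⟩ := lrg_bound c C₀
  obtain ⟨C, hC, h⟩ := weak_of_rat D
  refine ⟨C, hC, ?_⟩
  intro T _ _ _ q hq hT hna X hXt hX hL
  refine h T q (by omega) ?_ ?_
  · rw [← hX]
    exact Subgroup.card_le_card_group X
  · intro z hz
    have h1 := H367.Rg.Gluck.rat_of_lrg hna (by rw [hX]; exact hq) hXt hL hz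
    rw [hX] at h1
    exact Rat_mono (hD _ q hq hT Nat.card_pos) h1

end Weak

end Cfsg.Agent.H885.BS
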