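import Cfsg.Agent.H885.BS.OrthC
import Cfsg.Agent.H885.BS.Weak
import Cfsg.Agent.H885.BS.Quot
import Cfsg.Agent.H254.BS.PartI
import Cfsg.Agent.LieClassical.OmegaReindex

/-!
# S5717, PART I: `BR_OOdd`, `BR_OPlus`, `BR_OMinus` (helper885)
-/

set_option autoImplicit false

namespace Cfsg.Agent.H885.BS

open QuadraticMap Module Cfsg.Agent.LieClassical.OrthCore Cfsg.Agent.LieClassical.OrthTrans
  Cfsg.Agent.LieClassical.OrthFinite Cfsg.Agent.LieClassical.OmegaReindex Cfsg.Agent.H917.FP Cfsg.Agent.H254.BS.PI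

/-- `WeakM` for a perfect central extension of `T` -/
theorem weakM_of_quot {M T : Type} [Group M] [Finite M] (hM : commutator M = ⊤) [Group T] (π : M →* T)
    (hπ : Function.Surjective π) (hk : π.ker ≤ Subgroup.center M) {C q : ℕ} (hC : 0 < C) (hq : 0 < q)
    (h : ∀ x : T, x ≠ 1 → ∀ (Ω : Type) [Finite Ω] [MulAction T Ω], (∀ ω : Ω, ∃ g : T, g • ω ≠ ω) →
      fpr Ω {x} ^ C * (q : ℝ) ≤ C) : WeakM C M q := by
  intro x hx Ω _ _ hΩ
  have hqR : (0 : ℝ) < q := by exact_mod_cast hq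
  have hx1 : π x ≠ 1 := fun h1 => hx (hk h1)
  have h0 : (0 : ℝ) ≤ (C : ℝ) / q := by positivity
  have hδ : (0 : ℝ) ≤ ((C : ℝ) / q) ^ ((C : ℝ)⁻¹) := by positivity
  have h1 : fpr Ω {x} ≤ ((C : ℝ) / q) ^ ((C : ℝ)⁻¹) := by
    refine fpr_quot hM π hπ hk (x := x) ?_ hδ Ω hΩ
    intro Ω' _ _ hΩ'
    have h2 := h (π x) hx1 Ω' hΩ'
    rw [← le_div_iff₀ hqR] at h2
    rw [← Real.pow_rpow_inv_natCast (fpr_nonneg Ω' {π x}) hC.ne']
    exact Real.rpow_le_rpow (pow_nonneg (fpr_nonneg _ _) _) h2 (by positivity)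
  rw [← le_div_iff₀ hqR]
  calc fpr Ω {x} ^ C ≤ (((C : ℝ) / q) ^ ((C : ℝ)⁻¹)) ^ C := pow_le_pow_left₀ (fpr_nonneg _ _) h1 _
    _ = (C : ℝ) / q := Real.rpow_inv_natCast_pow h0 hC.ne'

/-- `E Q` is perfect -/
theorem commutator_E {F V : Type*} [Field F] [AddCommGroup V] [Module F V] {Q : QuadraticForm F V} (hG : Good Q) :
    commutator ↥(E Q) = ⊤ := by
  apply Subgroup.map_injective (Subgroup.subtype_injective (E Q))
  rw [Subgroup.map_subtype_commutator, hG.E_perfect, ← MonoidHom.range_eq_map, Subgroup.range_subtype]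

theorem commutator_top_of_surj {M T : Type*} [Group M] [Group T] (hM : commutator M = ⊤) (π : M →* T)
    (hπ : Function.Surjective π) : commutator T = ⊤ := by
  have h : (commutator M).map π = commutator T := by
    rw [commutator_def, commutator_def, Subgroup.map_commutator, ← MonoidHom.range_eq_map,
      MonoidHom.range_eq_top.2 hπ]
  rw [← h, hM, ← MonoidHom.range_eq_map, MonoidHom.range_eq_top.2 hπ]

theorem not_comm_of_perfect {T : Type*} [Group T] [Nontrivial T] (hT : commutator T = ⊤) :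
    ∃ a b : T, a * b ≠ b * a := by
  by_contra hcon
  push Not at hcon
  have h : commutator T = ⊥ := by
    rw [commutator_def, Subgroup.commutator_eq_bot_iff_le_centralizer]
    intro a _
    rw [Subgroup.mem_centralizer_iff]
    intro b _
    exact hcon b a
  rw [h] at hT
  exact bot_ne_top hT

theorem card_Omega_le {ι : Type} [Fintype ι] [DecidableEq ι] (F : Type) [Field F] [Finite F] (Q : (ι → F) → F) :
    Nat.card (Omega F Q) ≤ Nat.card F ^ (Fintype.card ι) ^ 2 := by
  have h : Nat.card (Omega F Q) ≤ Nat.card (Matrix ι ι F) := by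
    refine Nat.card_le_card_of_injective
      (fun x => ((x.1.1 : Matrix.GeneralLinearGroup ι F) : Matrix ι ι F)) ?_
    intro x y h
    exact Subtype.ext (Subtype.ext (Units.ext h))
  refine h.trans (le_of_eq ?_)
  have h1 : Nat.card (Matrix ι ι F) = (Nat.card F ^ Fintype.card ι) ^ Fintype.card ι := by
    change Nat.card (ι → ι → F) = _
    rw [Nat.card_fun, Nat.card_fun, Nat.card_eq_fintype_card (α := ι)]
  rw [h1, ← pow_mul, _root_.sq]

/-- **Bounded rank, orthogonal groups of dimension at least seven.** -/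
theorem br_orth (n₀ : ℕ) : ∃ C : ℕ, 0 < C ∧ ∀ (F : Type) [Field F] [Fintype F] (ι : Type) [Fintype ι] [DecidableEq ι]
    (Q : QuadraticForm F (ι → F)), (polarBilin Q).Nondegenerate → 7 ≤ Fintype.card ι → Fintype.card ι ≤ n₀ →
    WeakM C (Omega F ⇑Q) (Fintype.card F) := by
  obtain ⟨C, hC, h⟩ := weak_of_lrg 4 (n₀ ^ 2)
  refine ⟨C, hC, ?_⟩
  intro F _ _ ι _ _ Q hQ' h7 hn
  have hQ := nondeg_of_nondegenerate hQ'
  have h7' : 7 ≤ finrank F (ι → F) := by rwa [finrank_fintype_fun_eq_card]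
  have hG : Good Q := good_of_finite hQ (by omega)
  have : IsSimpleGroup (POmega F ⇑Q) := isSimpleGroup_POmega hQ (by omega)
  have hq2 : 2 ≤ Fintype.card F := Fintype.one_lt_card
  let e : Omega F ⇑Q ≃* ↥(E Q) := (omegaEquiv Q).trans (MulEquiv.subgroupCongr hG.commutator_eq_E)
  have hM : commutator (Omega F ⇑Q) = ⊤ := commutator_top_of_surj (commutator_E hG) e.symm.toMonoidHom e.symm.surjective
  have : Finite (Omega F ⇑Q) := Finite.of_injective
      (fun x => ((x.1.1 : Matrix.GeneralLinearGroup ι F) : Matrix ι ι F)) (by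
    intro x y h
    exact Subtype.ext (Subtype.ext (Units.ext h)))
  set ρ : Omega F ⇑Q →* POmega F ⇑Q := QuotientGroup.mk' _ with hρ
  have hρs : Function.Surjective ρ := QuotientGroup.mk'_surjective _
  have hρk : ρ.ker ≤ Subgroup.center (Omega F ⇑Q) := by rw [hρ, QuotientGroup.ker_mk']
  let π : ↥(E Q) →* POmega F ⇑Q := ρ.comp e.symm.toMonoidHom
  have hπs : Function.Surjective π := hρs.comp e.symm.surjective
  have hπk : π.ker ≤ Subgroup.center ↥(E Q) := by
    intro x hx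
    have h1 : e.symm x ∈ Subgroup.center (Omega F ⇑Q) := hρk hx
    rw [Subgroup.mem_center_iff] at h1 ⊢
    intro g
    have h2 := h1 (e.symm g)
    rw [← map_mul, ← map_mul] at h2
    exact e.symm.injective h2
  have hna := not_comm_of_perfect (commutator_top_of_surj hM ρ hρs)
  obtain ⟨u, v, hts, hli⟩ := Orth.exists_line (Q := Q) h7'
  have hcard := Orth.card_XX hQ h7' hπk hts hli
  refine weakM_of_quot hM ρ hρs hρk hC (by omega) ?_
  refine h (POmega F ⇑Q) (Fintype.card F) hq2 ?_ hna (Orth.XX π u v) ?_ (by rw [hcard, Nat.card_eq_fintype_card])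
    (Orth.lrg hQ h7' hπk hπs hts hli)
  · refine (Nat.card_le_card_of_surjective ρ hρs).trans ((card_Omega_le F _).trans ?_)
    rw [Nat.card_eq_fintype_card (α := F)]
    exact Nat.pow_le_pow_right (by omega) (Nat.pow_le_pow_left hn 2)
  · intro htop
    obtain ⟨a, b, hab⟩ := hna
    apply hab
    obtain ⟨s, rfl⟩ := (Orth.mem_XX hts).1 (show a ∈ Orth.XX π u v by rw [htop]; trivial)
    obtain ⟨t, rfl⟩ := (Orth.mem_XX hts).1 (show b ∈ Orth.XX π u v by rw [htop]; trivial)
    rw [← map_mul, ← map_mul, Orth.sx_add (hts.smul_right s) (hts.smul_right t) ((Orth.TS.self hts.r).smul s t),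
      Orth.sx_add (hts.smul_right t) (hts.smul_right s) ((Orth.TS.self hts.r).smul t s), add_comm]

theorem br_oodd : BR_OOdd := by
  intro n₀
  obtain ⟨C, hC, h⟩ := br_orth (2 * n₀ + 1)
  refine ⟨C, hC, ?_⟩
  intro F _ _ m hm hmn hodd
  have h2 : (2 : F) ≠ 0 := by
    intro h2
    have hch : CharP F 2 := CharTwo.of_one_ne_zero_of_two_eq_zero one_ne_zero h2
    have h3 : Fintype.card F % 2 = 1 := Nat.odd_iff.1 hodd
    have h4 : 2 ∣ Fintype.card F := by
      obtain ⟨n, -, hn⟩ := FiniteField.card F 2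
      rw [hn]
      exact dvd_pow_self 2 n.pos.ne'
    omega
  have hc : Fintype.card (Unit ⊕ (Fin m ⊕ Fin m)) = 2 * m + 1 := by simp; omega
  rw [← coe_quadOdd]
  exact h F _ (quadOdd m F) (quadOdd_nondegenerate h2) (by omega) (by omega)

theorem br_oplus : BR_OPlus := by
  intro n₀
  obtain ⟨C, hC, h⟩ := br_orth (2 * n₀)
  refine ⟨C, hC, ?_⟩
  intro F _ _ m hm hmn
  have hc : Fintype.card (Fin m ⊕ Fin m) = 2 * m := by simp; omega
  rw [← coe_quadPlus]
  exact h F _ (quadPlus m F) quadPlus_nondegenerate (by omega) (by omega)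

theorem br_ominus : BR_OMinus := by
  intro n₀
  obtain ⟨C, hC, h⟩ := br_orth (2 * n₀)
  refine ⟨C, hC, ?_⟩
  intro F _ _ m a b hm hmn hab
  have hc : Fintype.card ((Fin (m - 1) ⊕ Fin (m - 1)) ⊕ Fin 2) = 2 * m := by simp; omega
  rw [← coe_quadMinus]
  exact h F _ (quadMinus (m - 1) F a b) (quadMinus_nondegenerate hab) (by omega) (by omega)

end Cfsg.Agent.H885.BS
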