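import Cfsg.Agent.LieClassical.OrthFinite

/-!
# S5717: totally singular lines and Siegel elements

helper885. `TS Q u v` : `u`, `v` span a totally singular subspace; `sx Q u v : E Q` is
`y ↦ y + B(u, y) v - B(v, y) u`; existence of dual singular vectors and of singular vectors orthogonal to few vectors.
-/

set_option autoImplicit false

namespace Cfsg.Agent.H885.BS.Orth

open QuadraticMap Module Cfsg.Agent.LieClassical.OrthCore Cfsg.Agent.LieClassical.OrthTrans
  Cfsg.Agent.LieClassical.OrthFinite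

variable {F V : Type*} [Field F] [AddCommGroup V] [Module F V] {Q : QuadraticForm F V}

/-! ### totally singular pairs -/

/-- totally singular pairs -/
structure TS (Q : QuadraticForm F V) (u v : V) : Prop where
  l : Q u = 0
  r : Q v = 0
  o : polar Q u v = 0

theorem TS.symm {u v : V} (h : TS Q u v) : TS Q v u := ⟨h.r, h.l, by rw [polar_comm]; exact h.o⟩

theorem TS.self {u : V} (h : Q u = 0) : TS Q u u := ⟨h, h, polar_self_of_sing h⟩

theorem TS.o' {u v : V} (h : TS Q u v) : polar Q v u = 0 := h.symm.o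

theorem TS.ll {u v : V} (h : TS Q u v) : polar Q u u = 0 := polar_self_of_sing h.l

theorem TS.rr {u v : V} (h : TS Q u v) : polar Q v v = 0 := polar_self_of_sing h.r

theorem TS.smul {u v : V} (h : TS Q u v) (a b : F) : TS Q (a • u) (b • v) :=
  ⟨by rw [QuadraticMap.map_smul, h.l, smul_zero], by rw [QuadraticMap.map_smul, h.r, smul_zero],
    by rw [polar_smul_left, polar_smul_right, h.o, smul_zero, smul_zero]⟩

theorem TS.smul_right {u v : V} (h : TS Q u v) (b : F) : TS Q u (b • v) := by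
  have := h.smul 1 b
  rwa [one_smul] at this

theorem TS.add {u v w : V} (h : TS Q u v) (h' : TS Q u w) (h'' : TS Q v w) : TS Q u (v + w) :=
  ⟨h.l, by rw [Q_add, h.r, h'.r, h''.o, add_zero, add_zero], by rw [polar_add_right, h.o, h'.o, add_zero]⟩

/-- linear combinations -/
theorem TS.comb {u v : V} (h : TS Q u v) (a b c d : F) : TS Q (a • u + b • v) (c • u + d • v) := by
  refine ⟨?_, ?_, ?_⟩
  · rw [Q_add, QuadraticMap.map_smul, QuadraticMap.map_smul, h.l, h.r, polar_smul_left, polar_smul_right, h.o]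
    simp
  · rw [Q_add, QuadraticMap.map_smul, QuadraticMap.map_smul, h.l, h.r, polar_smul_left, polar_smul_right, h.o]
    simp
  · simp only [polar_add_left, polar_add_right, polar_smul_left, polar_smul_right, h.o, h.o', h.ll, h.rr]
    simp

theorem TS.map {u v : V} (h : TS Q u v) {g : V ≃ₗ[F] V} (hg : g ∈ O Q) : TS Q (g u) (g v) :=
  ⟨by rw [mem_O.1 hg, h.l], by rw [mem_O.1 hg, h.r], by rw [polar_map hg, h.o]⟩

/-- linearly independent pairs -/
def LI (F : Type*) {V : Type*} [Field F] [AddCommGroup V] [Module F V] (u v : V) : Prop :=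
  ∀ a b : F, a • u + b • v = 0 → a = 0 ∧ b = 0

/-- linearly independent triples -/
def LI3 (F : Type*) {V : Type*} [Field F] [AddCommGroup V] [Module F V] (u v w : V) : Prop :=
  ∀ a b c : F, a • u + b • v + c • w = 0 → a = 0 ∧ b = 0 ∧ c = 0

theorem LI.symm {u v : V} (h : LI F u v) : LI F v u := by
  intro a b hab
  obtain ⟨h1, h2⟩ := h b a (by rw [add_comm]; exact hab)
  exact ⟨h2, h1⟩

theorem LI.left_ne {u v : V} (h : LI F u v) : u ≠ 0 := by
  rintro rfl
  have := (h 1 0 (by simp)).1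
  exact one_ne_zero this

theorem LI.right_ne {u v : V} (h : LI F u v) : v ≠ 0 := h.symm.left_ne

theorem LI.of_not_mem {u v : V} (hu : u ≠ 0) (h : ∀ c : F, v ≠ c • u) : LI F u v := by
  intro a b hab
  have hb : b = 0 := by
    by_contra hb
    apply h (-(b⁻¹ * a))
    have h1 : v = b⁻¹ • (b • v) := by rw [smul_smul, inv_mul_cancel₀ hb, one_smul]
    have h2 : b • v = -(a • u) := by rw [eq_neg_iff_add_eq_zero, add_comm]; exact hab
    rw [h1, h2, smul_neg, smul_smul, neg_smul]
  refine ⟨?_, hb⟩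
  rw [hb, zero_smul, add_zero] at hab
  exact (smul_eq_zero.1 hab).resolve_right hu

theorem LI.comb {u v : V} (h : LI F u v) {a b c d : F} (hd : a * d - b * c ≠ 0) :
    LI F (a • u + b • v) (c • u + d • v) := by
  intro x y hxy
  have h1 : (x * a + y * c) • u + (x * b + y * d) • v = 0 := by
    rw [← hxy]
    module
  obtain ⟨h2, h3⟩ := h _ _ h1
  have hx : (a * d - b * c) * x = 0 := by linear_combination d * h2 - c * h3
  have hy : (a * d - b * c) * y = 0 := by linear_combination a * h3 - b * h2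
  exact ⟨(mul_eq_zero.1 hx).resolve_left hd, (mul_eq_zero.1 hy).resolve_left hd⟩

theorem LI.map {u v : V} (h : LI F u v) (g : V ≃ₗ[F] V) : LI F (g u) (g v) := by
  intro a b hab
  refine h a b (g.injective ?_)
  rw [map_add, map_smul, map_smul, hab, map_zero]

theorem LI3.lin {u v w : V} (h : LI3 F u v w) : LinearIndependent F ![u, v, w] := by
  rw [Fintype.linearIndependent_iff]
  intro g hg i
  rw [Fin.sum_univ_three] at hg
  obtain ⟨h1, h2, h3⟩ := h _ _ _ hg
  fin_cases i
  · exact h1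
  · exact h2
  · exact h3

theorem LI.lin {u v : V} (h : LI F u v) : LinearIndependent F ![u, v] := by
  rw [Fintype.linearIndependent_iff]
  intro g hg i
  rw [Fin.sum_univ_two] at hg
  obtain ⟨h1, h2⟩ := h _ _ hg
  fin_cases i
  · exact h1
  · exact h2

theorem LI3.l12 {u v w : V} (h : LI3 F u v w) : LI F u v := by
  intro a b hab
  obtain ⟨h1, h2, -⟩ := h a b 0 (by rw [zero_smul, add_zero, hab])
  exact ⟨h1, h2⟩

theorem LI3.l13 {u v w : V} (h : LI3 F u v w) : LI F u w := by
  intro a b hab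
  obtain ⟨h1, -, h2⟩ := h a 0 b (by rw [zero_smul, add_zero, hab])
  exact ⟨h1, h2⟩

theorem LI3.l23 {u v w : V} (h : LI3 F u v w) : LI F v w := by
  intro a b hab
  obtain ⟨-, h1, h2⟩ := h 0 a b (by rw [zero_smul, zero_add, hab])
  exact ⟨h1, h2⟩

theorem LI3.swap {u v w : V} (h : LI3 F u v w) : LI3 F u w v := by
  intro a b c habc
  obtain ⟨h1, h2, h3⟩ := h a c b (by rw [← habc]; abel)
  exact ⟨h1, h3, h2⟩

theorem LI3.rot {u v w : V} (h : LI3 F u v w) : LI3 F v w u := by
  intro a b c habc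
  obtain ⟨h1, h2, h3⟩ := h c a b (by rw [← habc]; abel)
  exact ⟨h2, h3, h1⟩

theorem LI3.of {u v w : V} (h : LI F u v) (hw : ∀ a b : F, w ≠ a • u + b • v) : LI3 F u v w := by
  intro a b c habc
  have hc : c = 0 := by
    by_contra hc
    apply hw (-(c⁻¹ * a)) (-(c⁻¹ * b))
    have h1 : w = c⁻¹ • (c • w) := by rw [smul_smul, inv_mul_cancel₀ hc, one_smul]
    have h2 : c • w = -(a • u + b • v) := by rw [eq_neg_iff_add_eq_zero, add_comm]; exact habc
    rw [h1, h2]
    module
  rw [hc, zero_smul, add_zero] at habc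
  obtain ⟨h1, h2⟩ := h a b habc
  exact ⟨h1, h2, hc⟩

/-! ### duals -/

theorem exists_dual {n : ℕ} (hQ : Nondeg Q) {v : Fin n → V} (hv : LinearIndependent F v) (c : Fin n → F) :
    ∃ y, ∀ i, polar Q (v i) y = c i := by
  let f : V →ₗ[F] (Fin n → F) := LinearMap.pi fun i => polarBilin Q (v i)
  have hf : LinearMap.range f = ⊤ := by
    by_contra hne
    obtain ⟨g, hg0, hg⟩ := Submodule.exists_le_ker_of_lt_top _ (lt_top_iff_ne_top.2 hne)
    have h1 : ∀ y, ∑ i, g (Pi.single i 1) * polar Q (v i) y = 0 := by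
      intro y
      have h2 : g (f y) = 0 := hg ⟨y, rfl⟩
      rw [LinearMap.pi_apply_eq_sum_univ g] at h2
      rw [← h2]
      refine Finset.sum_congr rfl fun i _ => ?_
      have h3 : (fun j => if i = j then (1 : F) else 0) = Pi.single i 1 := by
        funext j
        rw [Pi.single_apply]
        simp [eq_comm]
      rw [smul_eq_mul, mul_comm, h3]
      rfl
    have h2 : ∑ i, g (Pi.single i 1) • v i = 0 := by
      apply hQ
      intro y
      have h3 : polarBilin Q (∑ i, g (Pi.single i 1) • v i) y = ∑ i, g (Pi.single i 1) * polar Q (v i) y := by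
        simp [map_sum, LinearMap.sum_apply]
      exact h3.trans (h1 y)
    have h3 := Fintype.linearIndependent_iff.1 hv _ h2
    apply hg0
    ext i
    simpa using h3 i
  obtain ⟨y, hy⟩ := LinearMap.range_eq_top.1 hf c
  exact ⟨y, fun i => congrFun hy i⟩

/-- correction of a dual vector -/
theorem sing_corr {v y : V} (hv : Q v = 0) (h : polar Q v y = 1) : Q (y - Q y • v) = 0 := by
  rw [sub_eq_add_neg, ← neg_smul, Q_add, QuadraticMap.map_smul, hv, polar_smul_right, polar_comm Q y v, h]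
  simp

theorem exists_dual3 (hQ : Nondeg Q) {u v w : V} (h : LI3 F u v w) (huw : TS Q u w) (hvw : TS Q v w) :
    ∃ y, Q y = 0 ∧ polar Q u y = 0 ∧ polar Q v y = 0 ∧ polar Q w y = 1 := by
  obtain ⟨y, hy⟩ := exists_dual hQ h.lin ![0, 0, 1]
  have h0 : polar Q u y = 0 := hy 0
  have h1 : polar Q v y = 0 := hy 1
  have h2 : polar Q w y = 1 := hy 2
  refine ⟨y - Q y • w, sing_corr huw.r h2, ?_, ?_, ?_⟩
  · rw [polar_sub_right, polar_smul_right, h0, huw.o, smul_zero, sub_zero]
  · rw [polar_sub_right, polar_smul_right, h1, hvw.o, smul_zero, sub_zero]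
  · rw [polar_sub_right, polar_smul_right, h2, huw.rr, smul_zero, sub_zero]

/-- a vector with given products -/
theorem exists_dual2 (hQ : Nondeg Q) {u v : V} (h : LI F u v) (a b : F) :
    ∃ y, polar Q u y = a ∧ polar Q v y = b := by
  obtain ⟨y, hy⟩ := exists_dual hQ h.lin ![a, b]
  exact ⟨y, hy 0, hy 1⟩

/-- singular vectors orthogonal to `n` vectors, not multiples of a given vector -/
theorem exists_sing_perp_ne [Finite F] {n : ℕ} (u : Fin n → V) (z : V) (hn : n + 4 ≤ finrank F V) :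
    ∃ w : V, w ≠ 0 ∧ Q w = 0 ∧ (∀ i, polar Q (u i) w = 0) ∧ ∀ c : F, w ≠ c • z := by
  have : Module.Finite F V := Module.finite_of_finrank_pos (by omega)
  let f : V →ₗ[F] (Fin n → F) := LinearMap.pi fun i => polarBilin Q (u i)
  obtain ⟨W', hW'⟩ := Submodule.exists_isCompl (Submodule.span F {z})
  have h1 := LinearMap.finrank_range_add_finrank_ker f
  have h2 : Module.finrank F (LinearMap.range f) ≤ n := by
    refine le_trans (Submodule.finrank_le _) ?_
    rw [Module.finrank_fin_fun]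
  have h3 : finrank F (Submodule.span F {z}) ≤ 1 := (finrank_span_le_card ({z} : Set V)).trans (by simp)
  have h4 := Submodule.finrank_add_eq_of_isCompl hW'
  have h5 := Submodule.finrank_sup_add_finrank_inf_eq (LinearMap.ker f) W'
  have h6 := Submodule.finrank_le (LinearMap.ker f ⊔ W')
  obtain ⟨w, hw, hw0, hQw⟩ := exists_sing_mem (Q := Q) (LinearMap.ker f ⊓ W') (by omega)
  refine ⟨w, hw0, hQw, fun i => ?_, ?_⟩
  · have := congrFun (LinearMap.mem_ker.1 hw.1) i
    simpa [f] using this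
  · rintro c rfl
    have h7 : c • z ∈ Submodule.span F {z} ⊓ W' :=
      ⟨Submodule.smul_mem _ _ (Submodule.mem_span_singleton_self z), hw.2⟩
    rw [hW'.inf_eq_bot, Submodule.mem_bot] at h7
    exact hw0 h7

/-! ### Siegel elements -/

open Classical in
/-- the Siegel element `y ↦ y + B(u, y) v - B(v, y) u` -/
noncomputable def sx (Q : QuadraticForm F V) (u v : V) : ↥(E Q) :=
  if h : Q u = 0 ∧ polar Q u v = 0 then ⟨siegel Q u v h.1 h.2, siegel_mem_E h.1 h.2⟩ else 1

theorem sx_apply {u v : V} (h : TS Q u v) (y : V) :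
    (sx Q u v : V ≃ₗ[F] V) y = y + polar Q u y • v - polar Q v y • u := by
  unfold sx
  rw [dif_pos ⟨h.l, h.o⟩]
  show siegel Q u v h.l h.o y = _
  rw [siegel_apply, h.r, zero_mul, zero_smul, sub_zero]

theorem E_ext {g h : ↥(E Q)} (H : ∀ y, (g : V ≃ₗ[F] V) y = (h : V ≃ₗ[F] V) y) : g = h :=
  Subtype.ext (LinearEquiv.ext H)

theorem sx_add {u v w : V} (h : TS Q u v) (h' : TS Q u w) (h'' : TS Q v w) :
    sx Q u v * sx Q u w = sx Q u (v + w) := by
  refine E_ext fun y => ?_
  show (sx Q u v : V ≃ₗ[F] V) ((sx Q u w : V ≃ₗ[F] V) y) = _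
  rw [sx_apply h, sx_apply h', sx_apply (h.add h' h'')]
  simp only [polar_add_left, polar_add_right, polar_sub_right, polar_smul_right, h.ll, h.o', h'.o, h''.o]
  module

theorem sx_zero {u : V} (h : Q u = 0) : sx Q u 0 = 1 := by
  have hz : TS Q u 0 := ⟨h, QuadraticMap.map_zero Q, polar_zero_right _ _⟩
  refine E_ext fun y => ?_
  rw [sx_apply hz, polar_zero_left]
  simp

theorem sx_inv {u v : V} (h : TS Q u v) : (sx Q u v)⁻¹ = sx Q u (-v) := by
  have h' : TS Q u (-v) := by
    have := h.smul_right (-1)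
    rwa [neg_one_smul] at this
  have h'' : TS Q v (-v) := by
    have := (TS.self h.r).smul_right (-1)
    rwa [neg_one_smul] at this
  rw [inv_eq_iff_mul_eq_one, sx_add h h' h'', add_neg_cancel, sx_zero h.l]

theorem sx_conj (g : ↥(E Q)) {u v : V} (h : TS Q u v) :
    g * sx Q u v * g⁻¹ = sx Q ((g : V ≃ₗ[F] V) u) ((g : V ≃ₗ[F] V) v) := by
  have hg : (g : V ≃ₗ[F] V) ∈ O Q := E_le_O g.2
  refine E_ext fun y => ?_
  obtain ⟨y, rfl⟩ := (g : V ≃ₗ[F] V).surjective y
  have h1 : ((g * sx Q u v * g⁻¹ : ↥(E Q)) : V ≃ₗ[F] V) ((g : V ≃ₗ[F] V) y) =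
      (g : V ≃ₗ[F] V) ((sx Q u v : V ≃ₗ[F] V) y) := by
    show (g : V ≃ₗ[F] V) ((sx Q u v : V ≃ₗ[F] V) ((g : V ≃ₗ[F] V).symm ((g : V ≃ₗ[F] V) y))) = _
    rw [LinearEquiv.symm_apply_apply]
  rw [h1, sx_apply h, sx_apply (h.map hg), polar_map hg, polar_map hg]
  simp only [map_add, map_sub, map_smul]

theorem sx_comb {u v : V} (h : TS Q u v) (a b c d : F) :
    sx Q (a • u + b • v) (c • u + d • v) = sx Q u ((a * d - b * c) • v) := by
  refine E_ext fun y => ?_
  rw [sx_apply (h.comb a b c d), sx_apply (h.smul_right _)]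
  simp only [polar_add_left, polar_smul_left, smul_eq_mul]
  module

theorem sx_symm {u v : V} (h : TS Q u v) : sx Q v u = sx Q u (-v) := by
  have := sx_comb h 0 1 1 0
  simpa using this

theorem sx_shift {u v : V} (h : TS Q u v) (c : F) : sx Q u (v + c • u) = sx Q u v := by
  have := sx_comb h 1 0 c 1
  rw [one_smul, zero_smul, add_zero, one_smul, mul_one, zero_mul, sub_zero, one_smul, add_comm] at this
  exact this

/-- the difference determines the pair -/
theorem sub_of_sx_eq (hQ : Nondeg Q) {u v u' v' : V} (h : TS Q u v) (h' : TS Q u' v') (hl : LI F u' v')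
    (he : sx Q u v = sx Q u' v') : (∃ a b : F, u' = a • u + b • v) ∧ ∃ a b : F, v' = a • u + b • v := by
  have key : ∀ y, polar Q u' y • v' - polar Q v' y • u' = polar Q u y • v - polar Q v y • u := by
    intro y
    have h1 := sx_apply h y
    rw [he, sx_apply h', add_sub_assoc, add_sub_assoc] at h1
    exact add_left_cancel h1
  constructor
  · obtain ⟨y, h1, h2⟩ := exists_dual2 hQ hl 0 (-1)
    have h3 := key y
    rw [h1, h2, zero_smul, zero_sub, neg_smul, one_smul, neg_neg] at h3
    exact ⟨-polar Q v y, polar Q u y, by rw [h3]; module⟩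
  · obtain ⟨y, h1, h2⟩ := exists_dual2 hQ hl 1 0
    have h3 := key y
    rw [h1, h2, zero_smul, sub_zero, one_smul] at h3
    exact ⟨-polar Q v y, polar Q u y, by rw [h3]; module⟩

/-- `sx u` is injective modulo `u` -/
theorem sx_inj (hQ : Nondeg Q) {u v w : V} (h : TS Q u v) (h' : TS Q u w) (hu : u ≠ 0) (he : sx Q u v = sx Q u w) :
    ∃ c : F, v - w = c • u := by
  obtain ⟨y, hy⟩ := hQ.exists_polar_eq hu 1
  have h1 := sx_apply h y
  rw [he, sx_apply h', add_sub_assoc, add_sub_assoc] at h1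
  have h2 := add_left_cancel h1
  rw [hy, one_smul, one_smul] at h2
  exact ⟨polar Q v y - polar Q w y, by
    rw [sub_smul, sub_eq_sub_iff_add_eq_add]
    rw [sub_eq_sub_iff_add_eq_add] at h2
    rw [← h2, add_comm]⟩

end Cfsg.Agent.H885.BS.Orth
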