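import Cfsg.Agent.H885.BS.OrthB

/-!
# S5717: long root groups of the orthogonal groups, adjacency and levels (helper885)
-/

set_option autoImplicit false

namespace Cfsg.Agent.H885.BS.Orth

open QuadraticMap Module Cfsg.Agent.LieClassical.OrthCore Cfsg.Agent.LieClassical.OrthTrans
  Cfsg.Agent.LieClassical.OrthFinite Cfsg.Agent.H141.Rg Cfsg.Agent.H367.Rg.Gluck

variable {F V : Type*} [Field F] [AddCommGroup V] [Module F V] {Q : QuadraticForm F V}
variable {T : Type*} [Group T] {π : ↥(E Q) →* T}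

section Hom

/-- the elements `sx u (a v + b w)` -/
noncomputable def qh (π : ↥(E Q) →* T) {u v w : V} (huv : TS Q u v) (huw : TS Q u w) (hvw : TS Q v w) :
    Multiplicative (F × F) →* T where
  toFun p := π (sx Q u (p.toAdd.1 • v + p.toAdd.2 • w))
  map_one' := by
    show π (sx Q u ((0 : F) • v + (0 : F) • w)) = 1
    rw [zero_smul, zero_smul, add_zero, sx_zero huv.l, map_one]
  map_mul' p r := by
    show π (sx Q u ((p.toAdd.1 + r.toAdd.1) • v + (p.toAdd.2 + r.toAdd.2) • w)) = _ * _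
    have key : ∀ a b : F, TS Q u (a • v + b • w) := fun a b =>
      (huv.smul_right a).add (huw.smul_right b) (hvw.smul a b)
    have hcc : ∀ a b c d : F, TS Q (a • v + b • w) (c • v + d • w) := fun a b c d => hvw.comb a b c d
    rw [← map_mul, sx_add (key _ _) (key _ _) (hcc _ _ _ _)]
    congr 2
    module

end Hom

section Cen

variable [Finite F] (hQ : Nondeg Q) (h7 : 7 ≤ finrank F V) (hk : π.ker ≤ Subgroup.center ↥(E Q))

include hQ h7 hk

theorem adj_of_R {u₀ v₀ : V} (h₀ : TS Q u₀ v₀) (hl₀ : LI F u₀ v₀) {A B : Subgroup T} (h : R π A B) :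
    Adj (XX π u₀ v₀) A B := by
  classical
  have : Fintype F := Fintype.ofFinite F
  obtain ⟨u, v, w, h3, huv, huw, hvw, rfl, rfl⟩ := h
  have hu0 : u ≠ 0 := h3.l12.left_ne
  have key : ∀ a b : F, TS Q u (a • v + b • w) := fun a b =>
    (huv.smul_right a).add (huw.smul_right b) (hvw.smul a b)
  have kl : ∀ a b : F, (a ≠ 0 ∨ b ≠ 0) → LI F u (a • v + b • w) := by
    intro a b hab x y hxy
    obtain ⟨h1, h2, h3'⟩ := h3 x (y * a) (y * b) (by rw [← hxy]; module)
    refine ⟨h1, ?_⟩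
    rcases hab with hab | hab
    · exact (mul_eq_zero.1 h2).resolve_right hab
    · exact (mul_eq_zero.1 h3').resolve_right hab
  -- the lines
  let P : F → Subgroup T := fun a => XX π u ((1 : F) • v + a • w)
  have hP : Function.Injective P := by
    intro a b hab
    obtain ⟨c, t, ht⟩ := mem_of_XX_eq hQ h7 hk (key 1 a) (key 1 b) hu0 hab
    obtain ⟨-, h1, h2⟩ := h3 c (t - 1) (t * a - b) (by
      have : c • u + t • ((1 : F) • v + a • w) - ((1 : F) • v + b • w) = 0 := by rw [← ht, sub_self]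
      rw [← this]
      module)
    have h3 : t = 1 := sub_eq_zero.1 h1
    rw [h3, one_mul] at h2
    exact sub_eq_zero.1 h2
  have hw : XX π u w = XX π u ((0 : F) • v + (1 : F) • w) := by rw [zero_smul, zero_add, one_smul]
  have hnot : XX π u w ∉ Finset.univ.image P := by
    intro hmem
    obtain ⟨a, -, ha⟩ := Finset.mem_image.1 hmem
    obtain ⟨c, t, ht⟩ := mem_of_XX_eq hQ h7 hk (key 1 a) huw hu0 ha
    obtain ⟨-, h1, h2⟩ := h3 c t (t * a - 1) (by
      have : c • u + t • ((1 : F) • v + a • w) - w = 0 := by rw [← ht, sub_self]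
      rw [← this]
      module)
    rw [h1, zero_mul, zero_sub, neg_eq_zero] at h2
    exact one_ne_zero h2
  have hmem : ∀ C ∈ insert (XX π u w) (Finset.univ.image P), ∃ a b : F, (a ≠ 0 ∨ b ≠ 0) ∧
      C = XX π u (a • v + b • w) := by
    intro C hC
    rcases Finset.mem_insert.1 hC with rfl | hC
    · exact ⟨0, 1, Or.inr one_ne_zero, hw⟩
    · obtain ⟨a, -, rfl⟩ := Finset.mem_image.1 hC
      exact ⟨1, a, Or.inl one_ne_zero, rfl⟩
  refine ⟨insert (XX π u w) (Finset.univ.image P), (qh π huv huw hvw).range, ?_, ?_, ?_, ?_, ?_, ?_, ?_⟩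
  · refine Finset.mem_insert_of_mem (Finset.mem_image.2 ⟨0, Finset.mem_univ _, ?_⟩)
    show XX π u ((1 : F) • v + (0 : F) • w) = _
    rw [zero_smul, add_zero, one_smul]
  · exact Finset.mem_insert_self _ _
  · intro C hC
    obtain ⟨a, b, hab, rfl⟩ := hmem C hC
    exact exists_conj hQ h7 h₀ hl₀ (key a b) (kl a b hab)
  · rw [Finset.card_insert_of_notMem hnot, Finset.card_image_of_injective _ hP, Finset.card_univ,
      card_XX hQ h7 hk h₀ hl₀, Nat.card_eq_fintype_card]
  · intro C hC D hD hne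
    obtain ⟨a, b, hab, rfl⟩ := hmem C hC
    obtain ⟨c, d, hcd, rfl⟩ := hmem D hD
    exact XX_ti hQ h7 hk (key a b) (key c d) (kl c d hcd) hne
  · intro C hC
    obtain ⟨a, b, hab, rfl⟩ := hmem C hC
    intro z hz
    obtain ⟨t, rfl⟩ := (mem_XX (key a b)).1 hz
    refine ⟨Multiplicative.ofAdd (t * a, t * b), ?_⟩
    show π (sx Q u ((t * a) • v + (t * b) • w)) = _
    congr 2
    module
  · have hinj : Function.Injective (qh π huv huw hvw) := by
      intro p r hpr
      have h1 : π (sx Q u (p.toAdd.1 • v + p.toAdd.2 • w)) = π (sx Q u (r.toAdd.1 • v + r.toAdd.2 • w)) := hpr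
      obtain ⟨c, hc⟩ := sub_smul_mem hQ h7 hk (key _ _) (key _ _) hu0 h1
      obtain ⟨-, h2, h3'⟩ := h3 (-c) (p.toAdd.1 - r.toAdd.1) (p.toAdd.2 - r.toAdd.2) (by
        have : (p.toAdd.1 • v + p.toAdd.2 • w - (r.toAdd.1 • v + r.toAdd.2 • w)) - c • u = 0 := by
          rw [hc, sub_self]
        rw [← this]
        module)
      apply Multiplicative.toAdd.injective
      exact Prod.ext (sub_eq_zero.1 h2) (sub_eq_zero.1 h3')
    rw [← Nat.card_congr (MonoidHom.ofInjective hinj).toEquiv, card_XX hQ h7 hk h₀ hl₀]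
    show Nat.card (F × F) = _
    rw [Nat.card_prod, _root_.sq]

/-! ### levels -/

theorem lev_of {u₀ v₀ : V} (h₀ : TS Q u₀ v₀) (hl₀ : LI F u₀ v₀) (z : ↥(E Q)) {p r s : V}
    (hzp : (z : V ≃ₗ[F] V) p = p) (hzr : (z : V ≃ₗ[F] V) r = r + s) (hpr : TS Q p r) (hps : TS Q p s)
    (hrs : TS Q r s) (lps : LI F p s) : Lev (XX π u₀ v₀) (π z) := by
  obtain ⟨g, hg⟩ := exists_conj (π := π) hQ h7 h₀ hl₀ hps lps
  have key : ∀ t : F, π z * π (sx Q p (t • r)) * (π z)⁻¹ * (π (sx Q p (t • r)))⁻¹ = π (sx Q p (t • s)) := by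
    intro t
    have h1 : z * sx Q p (t • r) * z⁻¹ = sx Q p (t • s) * sx Q p (t • r) := by
      rw [sx_conj z (hpr.smul_right t), hzp, map_smul, hzr, smul_add,
        sx_add (hps.smul_right t) (hpr.smul_right t) (hrs.symm.smul t t), add_comm]
    rw [← map_inv, ← map_inv, ← map_mul, ← map_mul, ← map_mul, h1, mul_inv_cancel_right]
  refine ⟨XX π p r, g, ?_⟩
  rw [← hg]
  refine ⟨?_, ?_, ?_⟩
  · intro w hw
    obtain ⟨t, rfl⟩ := (mem_XX hpr).1 hw
    show _ * _ * _ * _ ∈ _
    rw [key]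
    exact (mem_XX hps).2 ⟨t, rfl⟩
  · intro w hw w' hw' hww
    obtain ⟨t, rfl⟩ := (mem_XX hpr).1 hw
    obtain ⟨t', rfl⟩ := (mem_XX hpr).1 hw'
    have h1 : π (sx Q p (t • s)) = π (sx Q p (t' • s)) := by
      rw [← key, ← key]
      exact hww
    rw [param_inj hQ h7 hk hps lps h1]
  · intro w hw
    obtain ⟨t, rfl⟩ := (mem_XX hps).1 hw
    exact ⟨_, (mem_XX hpr).2 ⟨t, rfl⟩, key t⟩

theorem lev_two {u₀ v₀ : V} (h₀ : TS Q u₀ v₀) (hl₀ : LI F u₀ v₀) {u v u' v' r p : V} (h : TS Q u v)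
    (h' : TS Q u' v') (hr : Q r = 0) (hp : Q p = 0) (r1 : polar Q u' r = 0) (r2 : polar Q v' r = 0)
    (p1 : polar Q u p = 0) (p2 : polar Q v p = 0) (p3 : polar Q u' p = 0) (p4 : polar Q v' p = 0)
    (p5 : polar Q r p = 0) (hps : LI F p (polar Q u r • v - polar Q v r • u)) :
    Lev (XX π u₀ v₀) (π (sx Q u v * sx Q u' v')) := by
  set s : V := polar Q u r • v - polar Q v r • u with hs
  have hs' : s = (-polar Q v r) • u + polar Q u r • v := by rw [hs]; module
  have hQs : Q s = 0 := by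
    have := (h.comb (-polar Q v r) (polar Q u r) 0 0).l
    rwa [← hs'] at this
  have hrs0 : polar Q r s = 0 := by
    rw [hs, polar_sub_right, polar_smul_right, polar_smul_right, polar_comm Q r u, polar_comm Q r v, smul_eq_mul,
      smul_eq_mul]
    ring
  have hps0 : polar Q p s = 0 := by
    rw [hs, polar_sub_right, polar_smul_right, polar_smul_right, polar_comm Q p u, polar_comm Q p v, p1, p2]
    simp
  refine lev_of hQ h7 hk h₀ hl₀ _ (p := p) (r := r) (s := s) ?_ ?_ ⟨hp, hr, by rw [polar_comm]; exact p5⟩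
    ⟨hp, hQs, hps0⟩ ⟨hr, hQs, hrs0⟩ hps
  · show (sx Q u v : V ≃ₗ[F] V) ((sx Q u' v' : V ≃ₗ[F] V) p) = p
    rw [sx_apply h', p3, p4]
    simp only [zero_smul, add_zero, sub_zero]
    rw [sx_apply h, p1, p2]
    simp
  · show (sx Q u v : V ≃ₗ[F] V) ((sx Q u' v' : V ≃ₗ[F] V) r) = r + s
    rw [sx_apply h', r1, r2]
    simp only [zero_smul, add_zero, sub_zero]
    rw [sx_apply h, hs, add_sub_assoc]

/-- orthogonal lines -/
theorem lev_orth {u₀ v₀ : V} (h₀ : TS Q u₀ v₀) (hl₀ : LI F u₀ v₀) {u v u' v' : V} (h : TS Q u v) (hl : LI F u v)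
    (h' : TS Q u' v') (hl' : LI F u' v') (o1 : polar Q u u' = 0) (o2 : polar Q u v' = 0) (o3 : polar Q v u' = 0)
    (o4 : polar Q v v' = 0) (hv : ∀ a b : F, v ≠ a • u' + b • v') (hne : XX π u v ≠ XX π u' v') :
    Lev (XX π u₀ v₀) (π (sx Q u v * sx Q u' v')) := by
  obtain ⟨r, hr, r1, r2, r3⟩ := exists_dual3 hQ (LI3.of hl' hv) ⟨h'.l, h.r, by rw [polar_comm]; exact o3⟩
    ⟨h'.r, h.r, by rw [polar_comm]; exact o4⟩
  -- a point of the second line outside the first
  obtain ⟨x, ⟨a, b, hx⟩, hx'⟩ : ∃ x : V, (∃ a b : F, x = a • u' + b • v') ∧ ∀ a b : F, x ≠ a • u + b • v := by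
    by_contra hcon
    push Not at hcon
    apply hne
    exact (XX_eq_of_mem h hl' (hcon u' ⟨1, 0, by simp⟩) (hcon v' ⟨0, 1, by simp⟩)).symm
  have hxc : TS Q x x := by
    have := h'.comb a b a b
    rwa [← hx] at this
  refine lev_two hQ h7 hk h₀ hl₀ h h' (r := r) (p := x) hr hxc.l r1 r2 ?_ ?_ ?_ ?_ ?_ ?_
  · rw [hx, polar_add_right, polar_smul_right, polar_smul_right, o1, o2]
    simp
  · rw [hx, polar_add_right, polar_smul_right, polar_smul_right, o3, o4]
    simp
  · rw [hx, polar_add_right, polar_smul_right, polar_smul_right, h'.ll, h'.o]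
    simp
  · rw [hx, polar_add_right, polar_smul_right, polar_smul_right, h'.o', h'.rr]
    simp
  · rw [hx, polar_add_right, polar_smul_right, polar_smul_right, polar_comm Q r u', polar_comm Q r v', r1, r2]
    simp
  · rw [r3, one_smul]
    intro c d hcd
    have hc : c = 0 := by
      by_contra hc
      apply hx' (c⁻¹ * d) (-(c⁻¹ * d * polar Q u r))
      have h1 : x = c⁻¹ • (c • x) := by rw [smul_smul, inv_mul_cancel₀ hc, one_smul]
      have h2 : c • x = -(d • (polar Q u r • v - u)) := eq_neg_of_add_eq_zero_left hcd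
      rw [h1, h2]
      module
    refine ⟨hc, ?_⟩
    rw [hc, zero_smul, zero_add] at hcd
    obtain ⟨h1, -⟩ := hl (-d) (d * polar Q u r) (by rw [← hcd]; module)
    exact neg_eq_zero.1 h1

/-- non-orthogonal lines -/
theorem lev_norm {u₀ v₀ : V} (h₀ : TS Q u₀ v₀) (hl₀ : LI F u₀ v₀) {u v u' v' : V} (h : TS Q u v) (hl : LI F u v)
    (h' : TS Q u' v') (o1 : polar Q u u' = 1) (o2 : polar Q u v' = 0) (o3 : polar Q v u' = 0) :
    Lev (XX π u₀ v₀) (π (sx Q u v * sx Q u' v')) := by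
  have hs : polar Q u u' • v - polar Q v u' • u = v := by rw [o1, o3, one_smul, zero_smul, sub_zero]
  by_cases hd : polar Q v v' = 0
  · by_cases hm : ∃ c : F, v' = c • v
    · obtain ⟨c, hc⟩ := hm
      obtain ⟨p, hp0, hp, hpp, hpv⟩ := exists_sing_perp_ne (Q := Q) ![u, v, u'] v (by omega)
      have e1 : polar Q u p = 0 := hpp 0
      have e2 : polar Q v p = 0 := hpp 1
      have e3 : polar Q u' p = 0 := hpp 2
      refine lev_two hQ h7 hk h₀ hl₀ h h' (r := u') (p := p) h'.l hp h'.ll h'.o' e1 e2 e3 ?_ e3 ?_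
      · rw [hc, polar_smul_left, e2, smul_zero]
      · rw [hs]
        exact (LI.of_not_mem hl.right_ne hpv).symm
    · push Not at hm
      refine lev_two hQ h7 hk h₀ hl₀ h h' (r := u') (p := v') h'.l h'.r h'.ll h'.o' o2 hd h'.o h'.rr h'.o ?_
      rw [hs]
      exact (LI.of_not_mem hl.right_ne hm).symm
  · obtain ⟨p, hp0, hp, hpp⟩ := exists_sing_perp (Q := Q) ![u, v, u', v'] (by omega)
    have e1 : polar Q u p = 0 := hpp 0
    have e2 : polar Q v p = 0 := hpp 1
    have e3 : polar Q u' p = 0 := hpp 2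
    have e4 : polar Q v' p = 0 := hpp 3
    refine lev_two hQ h7 hk h₀ hl₀ h h' (r := u') (p := p) h'.l hp h'.ll h'.o' e1 e2 e3 e4 e3 ?_
    rw [hs]
    refine (LI.of_not_mem hl.right_ne fun c hc => hp0 ?_).symm
    have h1 : c * polar Q v v' = 0 := by
      rw [hc, polar_smul_right, polar_comm Q v' v, smul_eq_mul] at e4
      exact e4
    rw [hc, (mul_eq_zero.1 h1).resolve_right hd, zero_smul]

omit [Finite F] hQ h7 hk in
/-- change of the pair -/
theorem change {u v : V} (h : TS Q u v) (hl : LI F u v) {a b c d : F} (hd : a * d - b * c = 1) :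
    TS Q (a • u + b • v) (c • u + d • v) ∧ LI F (a • u + b • v) (c • u + d • v) ∧
      sx Q (a • u + b • v) (c • u + d • v) = sx Q u v :=
  ⟨h.comb a b c d, hl.comb (by rw [hd]; exact one_ne_zero), by rw [sx_comb h, hd, one_smul]⟩

theorem lev_all {u₀ v₀ : V} (h₀ : TS Q u₀ v₀) (hl₀ : LI F u₀ v₀) {u v u' v' : V} (h : TS Q u v) (hl : LI F u v)
    (h' : TS Q u' v') (hl' : LI F u' v') (hne : XX π u v ≠ XX π u' v') :
    Lev (XX π u₀ v₀) (π (sx Q u v * sx Q u' v')) := by
  by_cases ho : polar Q u u' = 0 ∧ polar Q u v' = 0 ∧ polar Q v u' = 0 ∧ polar Q v v' = 0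
  · obtain ⟨o1, o2, o3, o4⟩ := ho
    by_cases hv : ∀ a b : F, v ≠ a • u' + b • v'
    · exact lev_orth hQ h7 hk h₀ hl₀ h hl h' hl' o1 o2 o3 o4 hv hne
    · by_cases hu : ∀ a b : F, u ≠ a • u' + b • v'
      · obtain ⟨c1, c2, c3⟩ := change h hl (a := 0) (b := -1) (c := 1) (d := 0) (by ring)
        rw [← c3]
        have e1 : (0 : F) • u + (-1 : F) • v = -v := by module
        have e2 : (1 : F) • u + (0 : F) • v = u := by module
        rw [e1, e2] at c1 c2 c3 ⊢
        refine lev_orth hQ h7 hk h₀ hl₀ c1 c2 h' hl' ?_ ?_ o1 o2 hu ?_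
        · rw [polar_neg_left, o3, neg_zero]
        · rw [polar_neg_left, o4, neg_zero]
        · intro he
          apply hne
          rw [← he]
          have := XX_comb (π := π) h (a := 0) (b := -1) (c := 1) (d := 0) (by simp)
          rw [e1, e2] at this
          exact this.symm
      · push Not at hu hv
        exact absurd (XX_eq_of_mem h' hl hu hv) hne
  · -- make `B(u, u') ≠ 0`
    obtain ⟨u1, v1, c1, c2, c3, u1', v1', c1', c2', c3', hc⟩ : ∃ u1 v1 : V, TS Q u1 v1 ∧ LI F u1 v1 ∧ sx Q u1 v1 = sx Q u v ∧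
        ∃ u1' v1' : V, TS Q u1' v1' ∧ LI F u1' v1' ∧ sx Q u1' v1' = sx Q u' v' ∧ polar Q u1 u1' ≠ 0 := by
      have hA := change h hl (a := 0) (b := -1) (c := 1) (d := 0) (by ring)
      have e1 : (0 : F) • u + (-1 : F) • v = -v := by module
      have e2 : (1 : F) • u + (0 : F) • v = u := by module
      rw [e1, e2] at hA
      have hA' := change h' hl' (a := 0) (b := -1) (c := 1) (d := 0) (by ring)
      have e1' : (0 : F) • u' + (-1 : F) • v' = -v' := by module
      have e2' : (1 : F) • u' + (0 : F) • v' = u' := by module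
      rw [e1', e2'] at hA'
      by_cases q1 : polar Q u u' = 0
      · by_cases q2 : polar Q u v' = 0
        · by_cases q3 : polar Q v u' = 0
          · have q4 : polar Q v v' ≠ 0 := fun q4 => ho ⟨q1, q2, q3, q4⟩
            exact ⟨-v, u, hA.1, hA.2.1, hA.2.2, -v', u', hA'.1, hA'.2.1, hA'.2.2, by
              rw [polar_neg_left, polar_neg_right, neg_neg]; exact q4⟩
          · exact ⟨-v, u, hA.1, hA.2.1, hA.2.2, u', v', h', hl', rfl, by
              rw [polar_neg_left]; exact neg_ne_zero.2 q3⟩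
        · exact ⟨u, v, h, hl, rfl, -v', u', hA'.1, hA'.2.1, hA'.2.2, by
            rw [polar_neg_right]; exact neg_ne_zero.2 q2⟩
      · exact ⟨u, v, h, hl, rfl, u', v', h', hl', rfl, q1⟩
    set c := polar Q u1 u1' with hcd
    obtain ⟨d1, d2, d3⟩ := change c1 c2 (a := c⁻¹) (b := 0) (c := -polar Q v1 u1') (d := c)
      (by rw [inv_mul_cancel₀ hc]; ring)
    rw [zero_smul, add_zero] at d1 d2 d3
    obtain ⟨d1', -, d3'⟩ := change c1' c2' (a := 1) (b := 0) (c := -polar Q (c⁻¹ • u1) v1') (d := 1) (by ring)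
    rw [zero_smul, add_zero, one_smul, one_smul] at d1' d3'
    rw [← c3, ← c3', ← d3, ← d3']
    refine lev_norm hQ h7 hk h₀ hl₀ d1 d2 d1' ?_ ?_ ?_
    · rw [polar_smul_left, ← hcd, smul_eq_mul, inv_mul_cancel₀ hc]
    · rw [polar_add_right, polar_smul_right, polar_smul_left Q c⁻¹ u1 u1', ← hcd, smul_eq_mul, smul_eq_mul,
        inv_mul_cancel₀ hc]
      ring
    · rw [polar_add_left, polar_smul_left, polar_smul_left, ← hcd, smul_eq_mul, smul_eq_mul]
      ring

/-- **Long root groups.** -/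
theorem lrg (hs : Function.Surjective π) {u v : V} (h : TS Q u v) (hl : LI F u v) : LRG (XX π u v) 4 := by
  refine ⟨?_, ?_, ?_⟩
  · intro t ht
    obtain ⟨g, rfl⟩ := hs t
    rw [cj_XX h] at ht ⊢
    exact XX_ti hQ h7 hk (h.map (E_le_O g.2)) h hl ht
  · intro t
    obtain ⟨g, rfl⟩ := hs t
    rw [cj_XX h]
    obtain ⟨l, h1, h2⟩ := conn (π := π) h7 h hl (h.map (E_le_O g.2)) (hl.map _)
    obtain ⟨p, p0, pn, hp⟩ := h2.path
    exact ⟨l, p, h1, p0, pn, fun i hi => adj_of_R hQ h7 hk h hl (hp i hi)⟩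
  · intro t ht a ha ha1 b hb hb1
    obtain ⟨g, rfl⟩ := hs t
    rw [cj_XX h] at ht hb
    set u' : V := (g : V ≃ₗ[F] V) u with hu'
    set v' : V := (g : V ≃ₗ[F] V) v with hv'
    have h' : TS Q u' v' := h.map (E_le_O g.2)
    have hl' : LI F u' v' := hl.map _
    obtain ⟨s, rfl⟩ := (mem_XX h).1 ha
    obtain ⟨s', rfl⟩ := (mem_XX h').1 hb
    have hs0 : s ≠ 0 := by
      rintro rfl
      apply ha1
      rw [zero_smul, sx_zero h.l, map_one]
    have hs0' : s' ≠ 0 := by
      rintro rfl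
      apply hb1
      rw [zero_smul, sx_zero h'.l, map_one]
    have l1 : LI F u (s • v) := by
      have := hl.comb (a := 1) (b := 0) (c := 0) (d := s) (by simpa using hs0)
      simpa using this
    have l1' : LI F u' (s' • v') := by
      have := hl'.comb (a := 1) (b := 0) (c := 0) (d := s') (by simpa using hs0')
      simpa using this
    rw [← map_mul]
    refine lev_all hQ h7 hk h hl (h.smul_right s) l1 (h'.smul_right s') l1' ?_
    rw [XX_smul h hs0, XX_smul h' hs0']
    exact fun he => ht he.symm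

end Cen

/-- a totally singular line -/
theorem exists_line [Finite F] (h7 : 7 ≤ finrank F V) : ∃ u v : V, TS Q u v ∧ LI F u v := by
  obtain ⟨u, hu0, hu, -⟩ := exists_sing_perp (Q := Q) (n := 0) ![] (by omega)
  obtain ⟨v, hv0, hv, hvu, hvn⟩ := exists_sing_perp_ne (Q := Q) ![u] u (by omega)
  exact ⟨u, v, ⟨hu, hv, hvu 0⟩, LI.of_not_mem hu0 hvn⟩

end Cfsg.Agent.H885.BS.Orth
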